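import Mathlib
import Cfsg.Agent.H2.BG11.B
import Cfsg.Agent.H1.Hall
import Cfsg.Agent.Lib.Helper4.Rank2Aut
import Cfsg.Agent.Lib.Helper4.BGTwB

/-!
# General lemmas for B&G Corollary 12.10 (S1420)
-/

set_option autoImplicit false
set_option linter.unusedVariables false
set_option linter.unusedSectionVars false
set_option linter.style.haveILetI false

open scoped commutatorElement Pointwise

namespace Cfsg.Agent.H2.BG12

open Cfsg Cfsg.Agent.Lib.Helper8.BGTen Cfsg.Agent.Lib.Helper4.BGTrans Cfsg.Agent.H2.BG11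
open Cfsg.Agent.Lib.Helper7 (IsSylowIn exists_isSylowIn_ge)

universe u

/-- a finite nilpotent group with abelian Sylow subgroups is abelian -/
theorem comm_of_sylow_comm {X : Type*} [Group X] [Finite X] [hn : Group.IsNilpotent X]
    (h : ∀ (p : ℕ) [Fact p.Prime] (P : Sylow p X), ∀ a ∈ (P : Subgroup X), ∀ b ∈ (P : Subgroup X),
      a * b = b * a) : ∀ x y : X, x * y = y * x := by
  classical
  have hnorm : ∀ {p : ℕ} [Fact p.Prime] (P : Sylow p X), (↑P : Subgroup X).Normal :=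
    fun P => inferInstance
  let e := Sylow.directProductOfNormal hnorm
  intro x y
  obtain ⟨a, rfl⟩ := e.surjective x
  obtain ⟨b, rfl⟩ := e.surjective y
  rw [← map_mul, ← map_mul]
  congr 1
  funext p P
  haveI : Fact (p : ℕ).Prime := ⟨Nat.prime_of_mem_primeFactors p.2⟩
  apply Subtype.ext
  exact h p P _ (a p P).2 _ (b p P).2

variable {G : Type u} [Group G] [Finite G]

/-- a subgroup of order `p²` inside a group of `p`-rank `≥ 2` -/
theorem exists_elem_sq {p : ℕ} [hp : Fact p.Prime] {M : Subgroup G} (h : ¬ Cfsg.PRankLE p 1 ↥M) :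
    ∃ A : Subgroup G, A ≤ M ∧ Cfsg.IsElementaryAbelian p A ∧ Nat.card ↥A = p ^ 2 := by
  obtain ⟨E, hEM, hE, hcard⟩ := Cfsg.Agent.H2.BGU.exists_elementary_of_not_pRankLE h
  have hEp : IsPGroup p ↥E := isPGroup_of_elementary hE
  obtain ⟨n, hn⟩ := hEp.exists_card_eq
  have h2n : 2 ≤ n := by
    by_contra hlt
    push Not at hlt
    have : p ^ n < p ^ (1 + 1) := Nat.pow_lt_pow_right hp.out.one_lt hlt
    rw [hn] at hcard
    omega
  have hdvd : p ^ 2 ∣ Nat.card ↥E := by rw [hn]; exact pow_dvd_pow p h2n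
  obtain ⟨K, hK⟩ := Sylow.exists_subgroup_card_pow_prime p hdvd
  refine ⟨K.map E.subtype, (Subgroup.map_subtype_le K).trans hEM, ⟨?_, ?_⟩, ?_⟩
  · refine ⟨⟨fun a b => ?_⟩⟩
    obtain ⟨a, ha⟩ := a
    obtain ⟨b, hb⟩ := b
    obtain ⟨a', ha', rfl⟩ := ha
    obtain ⟨b', hb', rfl⟩ := hb
    apply Subtype.ext
    show E.subtype a' * E.subtype b' = E.subtype b' * E.subtype a'
    rw [← map_mul, ← map_mul, hE.1.is_comm.comm a' b']
  · rintro _ ⟨a, ha, rfl⟩
    exact hE.2 a a.2
  · rw [Subgroup.card_map_of_injective E.subtype_injective]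
    exact hK

/-! ### complements of `M_σ` -/

section compl

variable {M E : Subgroup G}

theorem compl_le (hE : Cfsg.IsComplIn E (Cfsg.sigmaCore M) M) : E ≤ M := hE.1

/-- `|E| = |M : M_σ|` -/
theorem card_compl (hE : Cfsg.IsComplIn E (Cfsg.sigmaCore M) M) :
    Nat.card ↥E = (Cfsg.sigmaCore M).relIndex M := by
  have h1 := Nat.card_congr (Equiv.ofBijective _
    ⟨Cfsg.Agent.Lib.Helper4.BGTw.proj_injective hE, Cfsg.Agent.Lib.Helper4.BGTw.proj_surjective hE⟩)
  rw [h1]
  show (Cfsg.piCore (Cfsg.sigma M) ↥M).index = _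
  exact (relIndex_map_subtype_self M _).symm

theorem card_compl_mul (hE : Cfsg.IsComplIn E (Cfsg.sigmaCore M) M) :
    Nat.card ↥M = Nat.card ↥E * Nat.card ↥(Cfsg.sigmaCore M) := by
  rw [card_compl hE]
  exact Cfsg.Agent.H1.card_eq_relIndex_mul_card (sigmaCore_le M)

/-- primes dividing `|E|` are not in `σ(M)` -/
theorem not_mem_sigma_of_dvd_compl (hG : Cfsg.IsMinSimpleOddOrder G) (hM : IsCoatom M)
    (hE : Cfsg.IsComplIn E (Cfsg.sigmaCore M) M) {q : ℕ} (hq : q.Prime)
    (hd : q ∣ Nat.card ↥E) : q ∉ Cfsg.sigma M := by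
  intro hqσ
  rw [card_compl hE] at hd
  exact (sigmaCore_hallOf hG hM).2.2 q hq hqσ hd

theorem coprime_compl (hG : Cfsg.IsMinSimpleOddOrder G) (hM : IsCoatom M)
    (hE : Cfsg.IsComplIn E (Cfsg.sigmaCore M) M) :
    (Nat.card ↥E).Coprime (Nat.card ↥(Cfsg.sigmaCore M)) := by
  apply Nat.Coprime.symm
  apply Nat.coprime_of_dvd
  intro q hq hd1 hd2
  exact not_mem_sigma_of_dvd_compl hG hM hE hq hd2 (mem_sigma_of_dvd_sigmaCore hG hM hq hd1)

/-- a conjugate of a complement by an element of `M` is a complement -/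
theorem compl_cj (hE : Cfsg.IsComplIn E (Cfsg.sigmaCore M) M) {m : G} (hm : m ∈ M) :
    Cfsg.IsComplIn (cj m E) (Cfsg.sigmaCore M) M := by
  have hσ : cj m (Cfsg.sigmaCore M) = Cfsg.sigmaCore M :=
    cj_eq_of_mem_normalizer (le_normalizer_sigmaCore M hm)
  refine ⟨?_, hE.2.1, ?_, ?_⟩
  · rw [← cj_eq_of_mem hm]
    exact cj_mono m hE.1
  · rw [eq_bot_iff]
    intro x hx
    have h1 : m⁻¹ * x * m ∈ E := mem_cj.mp hx.1
    have h2 : m⁻¹ * x * m ∈ Cfsg.sigmaCore M := by
      have := hx.2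
      rw [← hσ] at this
      exact mem_cj.mp this
    have h3 : m⁻¹ * x * m ∈ E ⊓ Cfsg.sigmaCore M := ⟨h1, h2⟩
    rw [hE.2.2.1, Subgroup.mem_bot] at h3
    rw [Subgroup.mem_bot]
    have : x = m * (m⁻¹ * x * m) * m⁻¹ := by group
    rw [this, h3]
    group
  · intro x hx
    have hx' : m⁻¹ * x * m ∈ M := M.mul_mem (M.mul_mem (M.inv_mem hm) hx) hm
    obtain ⟨a, ha, b, hb, hab⟩ := hE.2.2.2 _ hx'
    refine ⟨m * a * m⁻¹, conj_mem_cj ha, m * b * m⁻¹, ?_, ?_⟩
    · rw [← hσ]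
      exact conj_mem_cj hb
    · have : x = m * (m⁻¹ * x * m) * m⁻¹ := by group
      rw [this, hab]
      group

/-- Hall: a subgroup of `M` of order prime to `|M_σ|` lies in an `M`-conjugate of `E` -/
theorem exists_cj_compl_ge (hG : Cfsg.IsMinSimpleOddOrder G) (hM : IsCoatom M)
    (hE : Cfsg.IsComplIn E (Cfsg.sigmaCore M) M) {Y : Subgroup G} (hYM : Y ≤ M)
    (hY : (Nat.card ↥Y).Coprime (Nat.card ↥(Cfsg.sigmaCore M))) :
    ∃ m ∈ M, Y ≤ cj m E := by
  haveI : Group.IsSolvable ↥M := hG.2.2.2 M hM.1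
  have hcard : Nat.card ↥M = Nat.card ↥E * Nat.card ↥(Cfsg.sigmaCore M) := card_compl_mul hE
  have hH : Nat.card ↥(E.subgroupOf M) = Nat.card ↥E :=
    Cfsg.Agent.Lib.Helper7.card_subgroupOf_of_le hE.1
  have hK : (Nat.card ↥(Y.subgroupOf M)).Coprime (Nat.card ↥(Cfsg.sigmaCore M)) := by
    rw [Cfsg.Agent.Lib.Helper7.card_subgroupOf_of_le hYM]; exact hY
  obtain ⟨g, hg⟩ := Cfsg.Agent.H1.hall_dominance (G := ↥M) _ _ hcard (coprime_compl hG hM hE)
    (E.subgroupOf M) (Y.subgroupOf M) hH hK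
  refine ⟨g.1, g.2, ?_⟩
  intro y hy
  have h1 : (⟨y, hYM hy⟩ : ↥M) ∈ Y.subgroupOf M := Subgroup.mem_subgroupOf.mpr hy
  have h2 := hg h1
  rw [Subgroup.mem_smul_pointwise_iff_exists] at h2
  obtain ⟨e, he, hey⟩ := h2
  have he' : (e : G) ∈ E := Subgroup.mem_subgroupOf.mp he
  have h3 : (g : G) * e * (g : G)⁻¹ = y := by
    have := congrArg Subtype.val hey
    simpa [MulAut.smul_def, MulAut.conj_apply] using this
  rw [← h3]
  exact conj_mem_cj he'

end compl

/-! ### the automizer of a rank-2 elementary abelian subgroup when Sylow subgroups are abelian -/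

/-- If `A` is a `p`-group of rank `≤ 2` (`p` odd), `N ≤ N_G(A)` has odd order and every `p`-element
of `N` centralizes `A`, then `[N, N] ≤ C_G(A)`. -/
theorem commutator_le_centralizer_of_pelements {p : ℕ} [hp : Fact p.Prime] (hp2 : p ≠ 2)
    {A N : Subgroup G} (hA : IsPGroup p ↥A) (hr : Cfsg.PRankLE p 2 ↥A)
    (hN : N ≤ Subgroup.normalizer (A : Set G)) (hodd : Odd (Nat.card ↥N))
    (hpel : ∀ P : Subgroup G, P ≤ N → IsPGroup p ↥P → P ≤ Subgroup.centralizer (A : Set G)) :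
    ⁅N, N⁆ ≤ Subgroup.centralizer (A : Set G) := by
  classical
  set c := Cfsg.Agent.Lib.Helper4.Rank2Aut.conjHom A N hN with hc
  have hoddX : Odd (Nat.card ↥c.range) := by
    have h1 : Nat.card ↥c.range ∣ Nat.card ↥N := by
      have := Subgroup.card_dvd_of_surjective c.rangeRestrict c.rangeRestrict_surjective
      exact this
    exact Odd.of_dvd_nat hodd h1
  have hcomm := Cfsg.Agent.Lib.Helper4.Rank2Aut.isPGroup_commutator hp2 hA hr c.range hoddX
  -- `c.range` is a `p'`-group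
  have hp' : ¬ p ∣ Nat.card ↥c.range := by
    intro hd
    obtain ⟨P⟩ : Nonempty (Sylow p ↥N) := inferInstance
    have hPc : (P : Subgroup ↥N).map N.subtype ≤ Subgroup.centralizer (A : Set G) :=
      hpel _ (Subgroup.map_subtype_le _) (P.isPGroup'.map _)
    let Q : Sylow p ↥c.range := P.mapSurjective c.rangeRestrict_surjective
    have hQ : (Q : Subgroup ↥c.range) = ⊥ := by
      rw [eq_bot_iff]
      rintro _ ⟨x, hx, rfl⟩
      rw [Subgroup.mem_bot]
      apply Subtype.ext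
      show c x = 1
      apply MulEquiv.ext
      intro a
      apply Subtype.ext
      rw [Cfsg.Agent.Lib.Helper4.Rank2Aut.conjHom_apply]
      have hxc : (x : G) ∈ Subgroup.centralizer (A : Set G) := hPc ⟨x, hx, rfl⟩
      have := Subgroup.mem_centralizer_iff.mp hxc a a.2
      show (x : G) * a * (x : G)⁻¹ = ((1 : MulAut ↥A) a : ↥A)
      rw [MulAut.one_apply, ← this]
      group
    exact Q.ne_bot_of_dvd_card hd hQ
  have htriv : commutator ↥c.range = ⊥ := by
    rw [eq_bot_iff]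
    intro x hx
    obtain ⟨k, hk⟩ := hcomm ⟨x, hx⟩
    have hk' : x ^ p ^ k = 1 := by
      have := congrArg Subtype.val hk
      simpa using this
    have hcop : (orderOf x).Coprime p := by
      apply Nat.Coprime.symm
      rw [Nat.Prime.coprime_iff_not_dvd hp.out]
      intro hd
      exact hp' (hd.trans (orderOf_dvd_natCard x))
    have h1 : orderOf x ∣ p ^ k := orderOf_dvd_of_pow_eq_one hk'
    have h2 : orderOf x = 1 := Nat.Coprime.eq_one_of_dvd (hcop.pow_right k) h1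
    rw [Subgroup.mem_bot]
    exact orderOf_eq_one_iff.mp h2
  intro g hg
  have hgN : g ∈ N := Subgroup.commutator_le_self N hg |> fun h => h
  rw [← Subgroup.map_subtype_commutator] at hg
  obtain ⟨y, hy, rfl⟩ := hg
  have hmem : c.rangeRestrict y ∈ commutator ↥c.range :=
    Cfsg.Agent.Lib.Helper4.Rank2Aut.map_commutator_le c.rangeRestrict
      (Subgroup.mem_map_of_mem _ hy)
  rw [htriv, Subgroup.mem_bot] at hmem
  have hcy : c y = 1 := by
    have := congrArg Subtype.val hmem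
    simpa using this
  rw [Subgroup.mem_centralizer_iff]
  intro a ha
  have h1 := congrArg (fun σ : MulAut ↥A => ((σ ⟨a, ha⟩ : ↥A) : G)) hcy
  simp only [Cfsg.Agent.Lib.Helper4.Rank2Aut.conjHom_apply, MulAut.one_apply, hc] at h1
  rw [mul_inv_eq_iff_eq_mul] at h1
  exact h1.symm

end Cfsg.Agent.H2.BG12
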