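import Mathlib
import Cfsg.Agent.H2.BG12.A
import Cfsg.Agent.S0126
import Cfsg.Agent.S1404
import Cfsg.Agent.S1415

/-!
# B&G Corollary 12.10 (S1420), parts (a), (b), (c), from the statements of S1416, S1417
-/

set_option autoImplicit false
set_option linter.unusedVariables false
set_option linter.unusedSectionVars false
set_option linter.style.haveILetI false

open scoped commutatorElement Pointwise

namespace Cfsg.Agent.H2.BG12

open Cfsg Cfsg.Agent.Lib.Helper8.BGTen Cfsg.Agent.Lib.Helper4.BGTrans Cfsg.Agent.H2.BG11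
open Cfsg.Agent.Lib.Helper7 (IsSylowIn exists_isSylowIn_ge)

universe u

/-- the frozen statement of S1416 (for a fixed group `G`) -/
def St1416 (G : Type u) [Group G] [Finite G] : Prop :=
  ∀ (M : Subgroup G), IsCoatom M → ∀ (p : ℕ) [Fact p.Prime] (A : Subgroup G),
    (A ≤ M ∧ Cfsg.IsElementaryAbelian p A ∧ Nat.card A = p ^ 2) →
    Subgroup.centralizer (A : Set G) ≤ M ∧
      ((∀ A₀ : Subgroup G, A₀ ≤ A → Nat.card A₀ = p →
          ¬ (Subgroup.normalizer (A₀ : Set G) ≤ M ∧ ∀ L : Subgroup G, IsCoatom L → Subgroup.normalizer (A₀ : Set G) ≤ L → L = M)) →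
        p ∈ Cfsg.sigma M ∧ Cfsg.alphaCore M = ⊥ ∧ Group.IsNilpotent (Cfsg.sigmaCore M))

/-- the frozen statement of S1417 (for a fixed group `G`) -/
def St1417 (G : Type u) [Group G] [Finite G] : Prop :=
  ∀ (M : Subgroup G), IsCoatom M → ∀ (p : ℕ) [Fact p.Prime], p ∈ Cfsg.tau2 M → ∀ (A : Subgroup G),
    (A ≤ M ∧ Cfsg.IsElementaryAbelian p A ∧ Nat.card A = p ^ 2) →
    Group.IsNilpotent (Cfsg.sigmaCore M) ∧
      (∀ P : Sylow p M, IsMulCommutative (P : Subgroup M) ∧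
        (A ≤ (P : Subgroup M).map M.subtype →
          (∀ x ∈ (P : Subgroup M).map M.subtype, x ^ p = 1 ↔ x ∈ A) ∧
          ¬ Subgroup.normalizer ((((P : Subgroup M).map M.subtype : Subgroup G)) : Set G) ≤ M)) ∧
      M ≤ Subgroup.normalizer ((Cfsg.sigmaCore M ⊔ A : Subgroup G) : Set G) ∧
      Cfsg.sigmaCore M ⊓ Subgroup.centralizer (A : Set G) = ⊥ ∧
      (∀ Mstar : Subgroup G, IsCoatom Mstar → Mstar ≠ M → A ≤ Mstar → Cfsg.sigmaCore M ⊓ Mstar = ⊥) ∧
      ∃ A₁ : Subgroup G, A₁ ≤ A ∧ Nat.card A₁ = p ∧ Cfsg.sigmaCore M ⊓ Subgroup.centralizer (A₁ : Set G) = ⊥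

/-- the frozen statement of S1418 (for a fixed group `G`) -/
def St1418 (G : Type u) [Group G] [Finite G] : Prop :=
  ∀ (M : Subgroup G), IsCoatom M → ∀ (E : Subgroup G), Cfsg.IsComplIn E (Cfsg.sigmaCore M) M →
    ∀ (p : ℕ) [Fact p.Prime], p ∈ Cfsg.tau2 M → ∀ (A : Subgroup G),
    (A ≤ E ∧ Cfsg.IsElementaryAbelian p A ∧ Nat.card A = p ^ 2) →
    (E ≤ Subgroup.normalizer (A : Set G) ∧ ∀ X : Subgroup G, X ≤ E → Nat.card X = p → X ≤ A) ∧
      (Subgroup.centralizer (A : Set G) ≤ M ⊓ Subgroup.normalizer (A : Set G) ∧ M ⊓ Subgroup.normalizer (A : Set G) = E ∧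
        ¬ Subgroup.normalizer (A : Set G) ≤ M) ∧
      ∀ X : Subgroup G, X ≤ A → Nat.card X = p → Cfsg.sigmaCore M ⊓ Subgroup.centralizer (X : Set G) ≠ ⊥ → (Subgroup.centralizer (X : Set G) ≤ M ∧ ∀ L : Subgroup G, IsCoatom L → Subgroup.centralizer (X : Set G) ≤ L → L = M)

/-- the part of the frozen statement of S1419 that is used (for a fixed group `G`) -/
def St1419 (G : Type u) [Group G] [Finite G] : Prop :=
  ∀ (M : Subgroup G), IsCoatom M → ∀ (E : Subgroup G), Cfsg.IsComplIn E (Cfsg.sigmaCore M) M →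
    ∀ (p : ℕ) [Fact p.Prime], p ∈ Cfsg.tau2 M → (∀ S : Sylow p G, ¬ IsMulCommutative (S : Subgroup G)) →
    ∀ (A : Subgroup G), (A ≤ E ∧ Cfsg.IsElementaryAbelian p A ∧ Nat.card A = p ^ 2) →
    Cfsg.tau2 M = {p}

variable {G : Type u} [Group G] [Finite G]

/-- an `r`-subgroup of `M` with `r ∉ σ(M)` is abelian -/
theorem comm_of_pgroup_not_sigma (hG : Cfsg.IsMinSimpleOddOrder G) (h17 : St1417 G)
    {M : Subgroup G} (hM : IsCoatom M) {r : ℕ} [hr : Fact r.Prime] (hrσ : r ∉ Cfsg.sigma M)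
    {R : Subgroup G} (hRM : R ≤ M) (hR : IsPGroup r ↥R) : ∀ a ∈ R, ∀ b ∈ R, a * b = b * a := by
  by_cases h1 : Cfsg.PRankLE r 1 ↥M
  · have hcyc : IsCyclic ↥R := Cfsg.Agent.Lib.Helper4.BGTw.isCyclic_of_pRankLE_one hG h1 hRM hR
    intro a ha b hb
    have := hcyc.isMulCommutative.is_comm.comm (⟨a, ha⟩ : ↥R) ⟨b, hb⟩
    exact congrArg Subtype.val this
  · have h2 : Cfsg.PRankLE r 2 ↥M := by
      by_contra h2
      exact hrσ (alpha_subset_sigma hG (uniq hG) hM ⟨hr.out, h2⟩)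
    have hτ : r ∈ Cfsg.tau2 M := ⟨hr.out, hrσ, h2, h1⟩
    obtain ⟨A, hAM, hAe, hAc⟩ := exists_elem_sq h1
    obtain ⟨-, hb, -⟩ := h17 M hM r hτ A ⟨hAM, hAe, hAc⟩
    obtain ⟨P, hP⟩ := (hR.comap_subtype (K := M)).exists_le_sylow
    have hPc := (hb P).1
    intro a ha b hb'
    have ha' : (⟨a, hRM ha⟩ : ↥M) ∈ (P : Subgroup ↥M) := hP (Subgroup.mem_subgroupOf.mpr ha)
    have hb'' : (⟨b, hRM hb'⟩ : ↥M) ∈ (P : Subgroup ↥M) := hP (Subgroup.mem_subgroupOf.mpr hb')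
    have := hPc.is_comm.comm (⟨⟨a, hRM ha⟩, ha'⟩ : ↥(P : Subgroup ↥M)) ⟨⟨b, hRM hb'⟩, hb''⟩
    exact congrArg (fun z : ↥(P : Subgroup ↥M) => ((z : ↥M) : G)) this

/-- **S1420 (a)**: nilpotent `σ(M)'`-subgroups of `M` are abelian -/
theorem part_a (hG : Cfsg.IsMinSimpleOddOrder G) (h17 : St1417 G)
    {M : Subgroup G} (hM : IsCoatom M) (N : Subgroup G) (hNM : N ≤ M)
    (hnil : Group.IsNilpotent ↥N)
    (hσ : ∀ p : ℕ, p.Prime → p ∣ Nat.card ↥N → p ∉ Cfsg.sigma M) : IsMulCommutative ↥N := by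
  refine ⟨⟨?_⟩⟩
  apply comm_of_sylow_comm
  intro p _ P a ha b hb
  by_cases hd : p ∣ Nat.card ↥N
  · have hR : IsPGroup p ↥((P : Subgroup ↥N).map N.subtype) := P.isPGroup'.map _
    have := comm_of_pgroup_not_sigma hG h17 hM (hσ p Fact.out hd)
      ((Subgroup.map_subtype_le _).trans hNM) hR (a : G) ⟨a, ha, rfl⟩ (b : G) ⟨b, hb, rfl⟩
    exact Subtype.ext this
  · have hP1 : (P : Subgroup ↥N) = ⊥ := by
      by_contra hne
      apply hd
      obtain ⟨k, hk⟩ := P.isPGroup'.exists_card_eq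
      have hk0 : k ≠ 0 := by
        rintro rfl
        rw [pow_zero] at hk
        exact hne (Subgroup.card_eq_one.mp hk)
      have : p ∣ Nat.card ↥(P : Subgroup ↥N) := by rw [hk]; exact dvd_pow_self p hk0
      exact this.trans (Subgroup.card_subgroup_dvd_card _)
    rw [hP1, Subgroup.mem_bot] at ha hb
    rw [ha, hb]

/-- **S1420 (b)**: `E'` is abelian -/
theorem part_b (hG : Cfsg.IsMinSimpleOddOrder G) (h17 : St1417 G)
    {M : Subgroup G} (hM : IsCoatom M) {E : Subgroup G}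
    (hE : Cfsg.IsComplIn E (Cfsg.sigmaCore M) M) : IsMulCommutative ↥⁅E, E⁆ := by
  have hnil := (Cfsg.Agent.S1415.result hG M hM E hE).1
  apply part_a hG h17 hM _ ((Subgroup.commutator_le_self E).trans hE.1) hnil
  intro p hp hd
  exact not_mem_sigma_of_dvd_compl hG hM hE hp
    (hd.trans (Subgroup.card_dvd_of_le (Subgroup.commutator_le_self E)))

/-- **S1420 (c)**: for `p ∈ σ(M)` the normalizer of a noncyclic `p`-subgroup of `M` lies in `M` -/
theorem part_c (hG : Cfsg.IsMinSimpleOddOrder G) (h16 : St1416 G)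
    {M : Subgroup G} (hM : IsCoatom M) (p : ℕ) (P : Subgroup G) (hp : p ∈ Cfsg.sigma M)
    (hP : IsPGroup p ↥P) (hPM : P ≤ M) (hnc : ¬ IsCyclic ↥P) :
    Subgroup.normalizer (P : Set G) ≤ M := by
  haveI : Fact p.Prime := ⟨hp.1⟩
  have hp2 : p ≠ 2 := by
    rintro rfl
    have hodd : Odd (Nat.card ↥M) := Cfsg.Agent.H2.BGU.odd_card_subgroup hG M
    have := hp.2.1
    rw [Nat.odd_iff] at hodd
    omega
  obtain ⟨A₀, -, hA₀e, hA₀c⟩ := Cfsg.Agent.S0126.result (R := ↥P) hp2 hP hnc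
  set A : Subgroup G := A₀.map P.subtype with hAdef
  have hAP : A ≤ P := Subgroup.map_subtype_le _
  have hAe : Cfsg.IsElementaryAbelian p A := by
    refine ⟨?_, ?_⟩
    · haveI := hA₀e.1
      exact Subgroup.map_isMulCommutative A₀ P.subtype
    · rintro _ ⟨a, ha, rfl⟩
      have := hA₀e.2 a ha
      have h2 := congrArg Subtype.val this
      simpa using h2
  have hAc : Nat.card ↥A = p ^ 2 := by
    rw [hAdef, Subgroup.card_map_of_injective P.subtype_injective]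
    exact hA₀c
  have hCA := (h16 M hM p A ⟨hAP.trans hPM, hAe, hAc⟩).1
  have hCP : Subgroup.centralizer (P : Set G) ≤ M :=
    (Subgroup.centralizer_le (by exact_mod_cast hAP)).trans hCA
  have hP1 : P ≠ ⊥ := by
    rintro rfl
    apply hnc
    infer_instance
  have h4 := (Cfsg.Agent.S1404.result hG M hM p hp P hP hP1 hPM).2
  rw [h4]
  exact sup_le inf_le_left hCP

end Cfsg.Agent.H2.BG12
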