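import Mathlib
import Cfsg.Agent.H2.BG12.B
import Cfsg.Agent.Lib.Helper4.BGUniqA

/-!
# B&G Corollary 12.10 (S1420), part (d), and the assembly
-/

set_option autoImplicit false
set_option linter.unusedVariables false
set_option linter.unusedSectionVars false
set_option linter.style.haveILetI false

open scoped commutatorElement Pointwise

namespace Cfsg.Agent.H2.BG12

open Cfsg Cfsg.Agent.Lib.Helper8.BGTen Cfsg.Agent.Lib.Helper4.BGTrans Cfsg.Agent.H2.BG11
open Cfsg.Agent.Lib.Helper7 (IsSylowIn exists_isSylowIn_ge)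

universe u

variable {G : Type u} [Group G] [Finite G]

/-- if some Sylow `p`-subgroup of `G` is abelian then every `p`-subgroup is -/
theorem comm_of_sylow_abelian {p : ℕ} [hp : Fact p.Prime]
    (hS : ∃ S : Sylow p G, IsMulCommutative (S : Subgroup G)) {T : Subgroup G}
    (hT : IsPGroup p ↥T) : ∀ a ∈ T, ∀ b ∈ T, a * b = b * a := by
  obtain ⟨S, hS⟩ := hS
  obtain ⟨Q, hQ⟩ := hT.exists_le_sylow
  obtain ⟨g, hg⟩ := MulAction.exists_smul_eq G S Q
  intro a ha b hb
  have e : ((g • S : Sylow p G) : Subgroup G) = MulAut.conj g • (S : Subgroup G) := by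
    rw [Sylow.smul_def, Sylow.pointwise_smul_def]
  have ha' : a ∈ MulAut.conj g • (S : Subgroup G) := by rw [← e, hg]; exact hQ ha
  have hb' : b ∈ MulAut.conj g • (S : Subgroup G) := by rw [← e, hg]; exact hQ hb
  rw [Subgroup.mem_smul_pointwise_iff_exists] at ha' hb'
  obtain ⟨s, hs, rfl⟩ := ha'
  obtain ⟨t, ht, rfl⟩ := hb'
  have hst : s * t = t * s := congrArg Subtype.val (hS.is_comm.comm (⟨s, hs⟩ : ↥(S : Subgroup G)) ⟨t, ht⟩)
  simp only [MulAut.smul_def, MulAut.conj_apply]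
  calc g * s * g⁻¹ * (g * t * g⁻¹) = g * (s * t) * g⁻¹ := by group
    _ = g * (t * s) * g⁻¹ := by rw [hst]
    _ = g * t * g⁻¹ * (g * s * g⁻¹) := by group

/-- a `p`-subgroup `P ≤ N_G(A)` such that the `p`-group `P ⊔ A` is abelian centralizes `A` -/
theorem le_centralizer_of_sup_comm {P A : Subgroup G}
    (h : ∀ a ∈ P ⊔ A, ∀ b ∈ P ⊔ A, a * b = b * a) : P ≤ Subgroup.centralizer (A : Set G) := by
  intro x hx
  rw [Subgroup.mem_centralizer_iff]
  intro a ha
  exact h a (Subgroup.mem_sup_right ha) x (Subgroup.mem_sup_left hx)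

theorem pRankLE_two_of_card {p : ℕ} {A : Subgroup G} (hA : Nat.card ↥A = p ^ 2) :
    Cfsg.PRankLE p 2 ↥A := by
  intro B _ _
  rw [← hA]
  exact Subgroup.card_le_card_group B

theorem isElementaryAbelian_cj {p : ℕ} {A : Subgroup G} (hA : Cfsg.IsElementaryAbelian p A)
    (g : G) : Cfsg.IsElementaryAbelian p (cj g A) := by
  refine ⟨?_, ?_⟩
  · have := hA.1
    exact Subgroup.map_isMulCommutative A _
  · rintro _ ⟨a, ha, rfl⟩
    rw [← map_pow, hA.2 a ha, map_one]

/-- **S1420 (d)** -/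
theorem part_d (hG : Cfsg.IsMinSimpleOddOrder G) (h17 : St1417 G) (h18 : St1418 G)
    (h19 : St1419 G) {M : Subgroup G} (hM : IsCoatom M) {E : Subgroup G}
    (hE : Cfsg.IsComplIn E (Cfsg.sigmaCore M) M) (x : G) (hxM : x ∈ M) (hx1 : x ≠ 1)
    (hτ : ∀ p : ℕ, p.Prime → p ∣ orderOf x → p ∈ Cfsg.tau2 M) (hx : x ∈ Cfsg.sigmaHat M) :
    Subgroup.centralizer ({x} : Set G) ≤ M ∧
      ∀ L : Subgroup G, IsCoatom L → Subgroup.centralizer ({x} : Set G) ≤ L → L = M := by
  obtain ⟨-, y, hyσ, hy1, hxy⟩ := hx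
  -- Step 1: `x` lies in a complement `E₁`
  have hcopx : (Nat.card ↥(Subgroup.zpowers x)).Coprime (Nat.card ↥(Cfsg.sigmaCore M)) := by
    rw [Nat.card_zpowers]
    apply Nat.coprime_of_dvd
    intro q hq hd1 hd2
    exact (hτ q hq hd1).2.1 (mem_sigma_of_dvd_sigmaCore hG hM hq hd2)
  obtain ⟨m, hm, hxE⟩ := exists_cj_compl_ge hG hM hE ((Subgroup.zpowers_le).mpr hxM) hcopx
  have hE₁ := compl_cj hE hm
  obtain ⟨E₁, hE₁def⟩ : ∃ E₁ : Subgroup G, E₁ = cj m E := ⟨_, rfl⟩
  rw [← hE₁def] at hE₁ hxE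
  have hxE₁ : x ∈ E₁ := hxE (Subgroup.mem_zpowers x)
  -- Step 2: a prime `p ∣ o(x)` and `A ≤ E₁`
  have hox : orderOf x ≠ 1 := fun h => hx1 (orderOf_eq_one_iff.mp h)
  have hox0 : orderOf x ≠ 0 := (orderOf_pos x).ne'
  obtain ⟨p, hp, hpx⟩ := Nat.exists_prime_and_dvd hox
  haveI : Fact p.Prime := ⟨hp⟩
  have hpτ := hτ p hp hpx
  have hpσ : p ∉ Cfsg.sigma M := hpτ.2.1
  have hp2 : p ≠ 2 := by
    rintro rfl
    have hodd : Odd (Nat.card G) := hG.1
    have h2 : 2 ∣ Nat.card G := hpx.trans (orderOf_dvd_natCard x)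
    rw [Nat.odd_iff] at hodd
    omega
  obtain ⟨A₀, hA₀M, hA₀e, hA₀c⟩ := exists_elem_sq hpτ.2.2.2
  have hcopA : (Nat.card ↥A₀).Coprime (Nat.card ↥(Cfsg.sigmaCore M)) := by
    rw [hA₀c]
    apply Nat.Coprime.pow_left
    rw [Nat.Prime.coprime_iff_not_dvd hp]
    intro hd
    exact hpσ (mem_sigma_of_dvd_sigmaCore hG hM hp hd)
  obtain ⟨m', hm', hA₀E⟩ := exists_cj_compl_ge hG hM hE₁ hA₀M hcopA
  obtain ⟨A, hAdef⟩ : ∃ A : Subgroup G, A = cj m'⁻¹ A₀ := ⟨_, rfl⟩
  have hAE₁ : A ≤ E₁ := by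
    have := cj_mono m'⁻¹ hA₀E
    rwa [cj_inv_cj, ← hAdef] at this
  have hAe : Cfsg.IsElementaryAbelian p A := hAdef ▸ isElementaryAbelian_cj hA₀e _
  have hAc : Nat.card ↥A = p ^ 2 := by rw [hAdef, card_cj]; exact hA₀c
  have hAM : A ≤ M := hAE₁.trans hE₁.1
  have hAp : IsPGroup p ↥A := isPGroup_of_elementary hAe
  obtain ⟨⟨hE₁N, hXA⟩, ⟨hCA, hMN, hNM⟩, h3⟩ := h18 M hM E₁ hE₁ p hpτ A ⟨hAE₁, hAe, hAc⟩
  obtain ⟨-, -, -, -, h17e, -⟩ := h17 M hM p hpτ A ⟨hAM, hAe, hAc⟩
  -- Step 4: the subgroup `X` of order `p` of `⟨x⟩`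
  obtain ⟨z, hzdef⟩ : ∃ z : G, z = x ^ (orderOf x / p) := ⟨_, rfl⟩
  have hz : orderOf z = p := hzdef ▸ orderOf_pow_orderOf_div hox0 hpx
  have hzx : z * x = x * z := by rw [hzdef]; exact ((Commute.refl x).pow_left _).eq
  obtain ⟨X, hXdef⟩ : ∃ X : Subgroup G, X = Subgroup.zpowers z := ⟨_, rfl⟩
  have hXc : Nat.card ↥X = p := by rw [hXdef, Nat.card_zpowers, hz]
  have hzE₁ : z ∈ E₁ := hzdef ▸ E₁.pow_mem hxE₁ _
  have hXE₁ : X ≤ E₁ := hXdef ▸ (Subgroup.zpowers_le).mpr hzE₁
  have hXA' : X ≤ A := hXA X hXE₁ hXc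
  have hyz : y * z = z * y := by
    rw [hzdef]
    have hc : Commute y x := hxy.symm
    exact (hc.pow_right _).eq
  have hyX : y ∈ Subgroup.centralizer (X : Set G) := by
    rw [hXdef, centralizer_zpowers_eq, Subgroup.mem_centralizer_singleton_iff]
    exact hyz
  have hne : Cfsg.sigmaCore M ⊓ Subgroup.centralizer (X : Set G) ≠ ⊥ := by
    intro hb
    have : y ∈ Cfsg.sigmaCore M ⊓ Subgroup.centralizer (X : Set G) := ⟨hyσ, hyX⟩
    rw [hb] at this
    exact hy1 (Subgroup.mem_bot.mp this)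
  obtain ⟨hCX, hCXu⟩ := h3 X hXA' hXc hne
  have hX1 : X ≠ ⊥ := by
    intro hb
    rw [hb, Subgroup.card_bot] at hXc
    exact hp.one_lt.ne hXc
  have hXtop : X ≠ ⊤ := Cfsg.Agent.H2.BGU.ne_top_of_le_coatom hM (hXA'.trans hAM)
  have hNX : Subgroup.normalizer (X : Set G) ≤ M := by
    obtain ⟨L, hL, hNL⟩ := Cfsg.Agent.H2.BGU.exists_coatom_ge (normalizer_ne_top' hG hX1 hXtop)
    have := hCXu L hL ((Subgroup.centralizer_le_normalizer _).trans hNL)
    rw [← this]; exact hNL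
  have hxN : x ∈ Subgroup.normalizer (A : Set G) := hE₁N hxE₁
  -- Step 5: `x` centralizes `A`
  have hxA : x ∈ Subgroup.centralizer (A : Set G) := by
    by_cases hr : ∃ r : ℕ, r.Prime ∧ r ≠ p ∧ r ∣ orderOf x
    · obtain ⟨r, hrp, hrne, hrx⟩ := hr
      have hτne : Cfsg.tau2 M ≠ {p} := by
        intro h
        have := hτ r hrp hrx
        rw [h] at this
        exact hrne this
      have hS : ∃ S : Sylow p G, IsMulCommutative (S : Subgroup G) := by
        by_contra hcon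
        push Not at hcon
        exact hτne (h19 M hM E₁ hE₁ p hpτ hcon A ⟨hAE₁, hAe, hAc⟩)
      obtain ⟨N, hNdef⟩ : ∃ N : Subgroup G, N = Subgroup.normalizer (A : Set G) := ⟨_, rfl⟩
      have hpel : ∀ P : Subgroup G, P ≤ N → IsPGroup p ↥P →
          P ≤ Subgroup.centralizer (A : Set G) := by
        intro P hPN hP
        have hPA : IsPGroup p ↥(P ⊔ A) := hP.to_sup_of_normal_right' hAp (hNdef ▸ hPN)
        exact le_centralizer_of_sup_comm (comm_of_sylow_abelian hS hPA)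
      have hcomm := commutator_le_centralizer_of_pelements hp2 hAp (pRankLE_two_of_card hAc)
        (le_of_eq hNdef) (Cfsg.Agent.H2.BGU.odd_card_subgroup hG N) hpel
      obtain ⟨C, hCdef⟩ : ∃ C : Subgroup G, C = A ⊓ Subgroup.centralizer ({x} : Set G) := ⟨_, rfl⟩
      have hxNN : x ∈ N := hNdef ▸ hxN
      have hNC : N ≤ Subgroup.normalizer (C : Set G) := by
        intro n hn
        apply mem_normalizer_of_cj_eq
        apply Subgroup.eq_of_le_of_card_ge
        · intro w hw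
          rw [mem_cj] at hw
          obtain ⟨a, hadef⟩ : ∃ a : G, a = n⁻¹ * w * n := ⟨_, rfl⟩
          rw [← hadef, hCdef] at hw
          obtain ⟨haA, haC⟩ := hw
          have hwa : w = n * a * n⁻¹ := by rw [hadef]; group
          rw [hCdef, hwa, Subgroup.mem_inf]
          refine ⟨?_, ?_⟩
          · have hnA : n ∈ Subgroup.normalizer (A : Set G) := hNdef ▸ hn
            exact (Subgroup.mem_normalizer_iff.mp hnA a).mp haA
          · rw [Subgroup.mem_centralizer_singleton_iff]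
            obtain ⟨c, hcdef⟩ : ∃ c : G, c = ⁅x⁻¹, n⁻¹⁆ := ⟨_, rfl⟩
            have hc : c ∈ ⁅N, N⁆ := hcdef ▸ Subgroup.commutator_mem_commutator
              (N.inv_mem hxNN) (N.inv_mem hn)
            have hca : a * c = c * a := Subgroup.mem_centralizer_iff.mp (hcomm hc) a haA
            have hxa : a * x = x * a := Subgroup.mem_centralizer_singleton_iff.mp haC
            have e1 : x * (n * a * n⁻¹) = n * (x * c * a) * n⁻¹ := by
              rw [hcdef, commutatorElement_def]; group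
            have e2 : n * a * n⁻¹ * x = n * (a * (x * c)) * n⁻¹ := by
              rw [hcdef, commutatorElement_def]; group
            rw [e1, e2]
            congr 2
            calc a * (x * c) = (a * x) * c := (mul_assoc _ _ _).symm
              _ = x * a * c := by rw [hxa]
              _ = x * (a * c) := mul_assoc _ _ _
              _ = x * (c * a) := by rw [hca]
              _ = x * c * a := (mul_assoc _ _ _).symm
        · rw [card_cj]
      have hXC : X ≤ C := by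
        rw [hCdef]
        refine le_inf hXA' ?_
        rw [hXdef, Subgroup.zpowers_le, Subgroup.mem_centralizer_singleton_iff]
        exact hzx
      have hCA' : C ≤ A := hCdef ▸ inf_le_left
      have hcardC : Nat.card ↥C ∣ p ^ 2 := hAc ▸ Subgroup.card_dvd_of_le hCA'
      obtain ⟨k, hk2, hk⟩ := (Nat.dvd_prime_pow hp).mp hcardC
      have hpC : p ∣ Nat.card ↥C := hXc ▸ Subgroup.card_dvd_of_le hXC
      have hk0 : k ≠ 0 := by
        rintro rfl
        rw [hk, pow_zero] at hpC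
        exact hp.one_lt.ne' (Nat.dvd_one.mp hpC)
      have hk12 : k = 1 ∨ k = 2 := by omega
      rcases hk12 with rfl | rfl
      · exfalso
        have hCX' : X = C := Subgroup.eq_of_le_of_card_ge hXC (by rw [hk, hXc, pow_one])
        apply hNM
        rw [← hNdef]
        exact (hCX' ▸ hNC).trans hNX
      · have hCeq : C = A := Subgroup.eq_of_le_of_card_ge hCA' (by rw [hk, hAc])
        rw [Subgroup.mem_centralizer_iff]
        intro a ha
        have : a ∈ C := hCeq ▸ ha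
        rw [hCdef] at this
        exact Subgroup.mem_centralizer_singleton_iff.mp this.2
    · push Not at hr
      have hxp : IsPGroup p ↥(Subgroup.zpowers x) := by
        have h1 := Nat.eq_prime_pow_of_unique_prime_dvd (n := orderOf x) (p := p) hox0
          (fun {d} hd hdvd => by
            by_contra hne
            exact hr d hd hne hdvd)
        apply IsPGroup.of_card (n := (orderOf x).primeFactorsList.length)
        rw [Nat.card_zpowers]
        exact h1
      have hxzN : Subgroup.zpowers x ≤ Subgroup.normalizer (A : Set G) :=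
        (Subgroup.zpowers_le).mpr hxN
      have hPA : IsPGroup p ↥(Subgroup.zpowers x ⊔ A) := hxp.to_sup_of_normal_right' hAp hxzN
      have hle : Subgroup.zpowers x ⊔ A ≤ M := sup_le ((Subgroup.zpowers_le).mpr hxM) hAM
      exact le_centralizer_of_sup_comm (comm_of_pgroup_not_sigma hG h17 hM hpσ hle hPA)
        (Subgroup.mem_zpowers x)
  -- Step 6
  have hAx : A ≤ Subgroup.centralizer ({x} : Set G) := by
    intro a ha
    rw [Subgroup.mem_centralizer_singleton_iff]
    exact Subgroup.mem_centralizer_iff.mp hxA a ha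
  have hyx : y ∈ Subgroup.centralizer ({x} : Set G) := by
    rw [Subgroup.mem_centralizer_singleton_iff]
    exact hxy.symm
  have huniq : ∀ L : Subgroup G, IsCoatom L → Subgroup.centralizer ({x} : Set G) ≤ L → L = M := by
    intro L hL hCL
    by_contra hLM
    have h1 := h17e L hL hLM (hAx.trans hCL)
    have : y ∈ Cfsg.sigmaCore M ⊓ L := ⟨hyσ, hCL hyx⟩
    rw [h1] at this
    exact hy1 (Subgroup.mem_bot.mp this)
  refine ⟨?_, huniq⟩
  obtain ⟨L, hL, hCL⟩ := Cfsg.Agent.H2.BGU.exists_coatom_ge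
    (Cfsg.Agent.Lib.Helper4.BGUniq.centralizer_singleton_ne_top hG hx1)
  rw [← huniq L hL hCL]
  exact hCL

/-- **B&G Corollary 12.10** (the statement of S1420), from the statements of S1416–S1419 -/
theorem s1420 (hG : Cfsg.IsMinSimpleOddOrder G) (h16 : St1416 G) (h17 : St1417 G)
    (h18 : St1418 G) (h19 : St1419 G)
    (M : Subgroup G) (hM : IsCoatom M) (E : Subgroup G)
    (hE : Cfsg.IsComplIn E (Cfsg.sigmaCore M) M) :
    (∀ N : Subgroup G, N ≤ M → Group.IsNilpotent N → (∀ p : ℕ, p.Prime → p ∣ Nat.card N → p ∉ Cfsg.sigma M) → IsMulCommutative N) ∧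
      IsMulCommutative ↥⁅E, E⁆ ∧
      (∀ (p : ℕ) (P : Subgroup G), p ∈ Cfsg.sigma M → IsPGroup p P → P ≤ M → ¬ IsCyclic P → Subgroup.normalizer (P : Set G) ≤ M) ∧
      ∀ x ∈ M, x ≠ 1 → (∀ p : ℕ, p.Prime → p ∣ orderOf x → p ∈ Cfsg.tau2 M) → x ∈ Cfsg.sigmaHat M →
        Subgroup.centralizer ({x} : Set G) ≤ M ∧ ∀ L : Subgroup G, IsCoatom L → Subgroup.centralizer ({x} : Set G) ≤ L → L = M :=
  ⟨fun N hNM hnil hσ => part_a hG h17 hM N hNM hnil hσ, part_b hG h17 hM hE,
    fun p P hp hP hPM hnc => part_c hG h16 hM p P hp hP hPM hnc,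
    fun x hxM hx1 hτ hx => part_d hG h17 h18 h19 hM hE x hxM hx1 hτ hx⟩

end Cfsg.Agent.H2.BG12
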