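import Mathlib
import Cfsg.Agent.H2.BG12.C
import Cfsg.Agent.H1.Card
import Cfsg.Agent.H1.ElemAbelian

/-!
# Extraspecial groups of order `p³` and exponent `p` (for B&G 12.12, S1422)
-/

set_option autoImplicit false
set_option linter.unusedVariables false
set_option linter.unusedSectionVars false
set_option linter.style.haveILetI false

open scoped commutatorElement Pointwise

namespace Cfsg.Agent.H2.BG12

open Cfsg Cfsg.Agent.Lib.Helper8.BGTen

universe u

/-- a nonabelian group of order `p³`: the centre has order `p` and contains all commutators -/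
theorem center_card_of_card_cube {H : Type*} [Group H] (p : ℕ) [hp : Fact p.Prime]
    (hH : Nat.card H = p ^ 3) (hcomm : ¬ ∀ x y : H, x * y = y * x) :
    Nat.card (Subgroup.center H) = p ∧ ∀ a b : H, a * b * a⁻¹ * b⁻¹ ∈ Subgroup.center H := by
  classical
  haveI : Finite H := Nat.finite_of_card_ne_zero (by rw [hH]; exact pow_ne_zero _ hp.out.ne_zero)
  have hpG : IsPGroup p H := IsPGroup.of_card hH
  haveI : Nontrivial H := by
    rw [← Finite.one_lt_card_iff_nontrivial, hH]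
    exact Nat.one_lt_pow (by norm_num) hp.out.one_lt
  haveI := hpG.center_nontrivial
  have hZdvd : Nat.card (Subgroup.center H) ∣ p ^ 3 := by
    rw [← hH]; exact Subgroup.card_subgroup_dvd_card _
  obtain ⟨k, hk3, hk⟩ := (Nat.dvd_prime_pow hp.out).1 hZdvd
  have hidx : Nat.card (H ⧸ Subgroup.center H) * p ^ k = p ^ 3 := by
    rw [← hk, ← hH]
    exact (Subgroup.card_eq_card_quotient_mul_card_subgroup (Subgroup.center H)).symm
  have hZ1 : 1 < Nat.card (Subgroup.center H) := Finite.one_lt_card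
  have hkpos : k ≠ 0 := by
    rintro rfl
    rw [hk, pow_zero] at hZ1
    exact lt_irrefl _ hZ1
  have hk' : k = 1 ∨ k = 2 ∨ k = 3 := by omega
  rcases hk' with rfl | rfl | rfl
  · refine ⟨by rw [hk, pow_one], ?_⟩
    have hq : Nat.card (H ⧸ Subgroup.center H) = p ^ 2 := by
      have : Nat.card (H ⧸ Subgroup.center H) * p ^ 1 = p ^ 2 * p ^ 1 := by
        rw [hidx]; ring
      exact Nat.eq_of_mul_eq_mul_right (pow_pos hp.out.pos 1) this
    have hquot : ∀ x y : H ⧸ Subgroup.center H, x * y = y * x :=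
      isMulCommutative_iff.1 (IsPGroup.isMulCommutative_of_card_eq_prime_sq hq)
    intro a b
    apply (QuotientGroup.eq_one_iff _).1
    rw [QuotientGroup.mk_mul, QuotientGroup.mk_mul, QuotientGroup.mk_mul, QuotientGroup.mk_inv,
      QuotientGroup.mk_inv, hquot (a : H ⧸ Subgroup.center H) b]
    group
  · exfalso
    have hq : Nat.card (H ⧸ Subgroup.center H) = p := by
      have : Nat.card (H ⧸ Subgroup.center H) * p ^ 2 = p * p ^ 2 := by
        rw [hidx]; ring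
      exact Nat.eq_of_mul_eq_mul_right (pow_pos hp.out.pos 2) this
    haveI : IsCyclic (H ⧸ Subgroup.center H) := isCyclic_of_prime_card hq
    apply hcomm
    exact isMulCommutative_iff.1 (MonoidHom.isMulCommutative_of_isCyclic_of_ker_le_center
      (QuotientGroup.mk' (Subgroup.center H)) (by rw [QuotientGroup.ker_mk']))
  · exfalso
    apply hcomm
    have htop : Subgroup.center H = ⊤ := by
      apply Subgroup.eq_top_of_card_eq
      rw [hk, hH]
    intro x y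
    have : y ∈ Subgroup.center H := by rw [htop]; exact Subgroup.mem_top _
    exact Subgroup.mem_center_iff.1 this x

variable {G : Type u} [Group G] [Finite G]

/-- the relevant properties of a nonabelian group `P₁` of order `p³` and exponent `p` with
centre `Z` -/
structure Extra (p : ℕ) (P₁ Z : Subgroup G) : Prop where
  le : Z ≤ P₁
  cardZ : Nat.card ↥Z = p
  central : ∀ z ∈ Z, ∀ a ∈ P₁, z * a = a * z
  comm : ∀ a ∈ P₁, ∀ b ∈ P₁, a * b * a⁻¹ * b⁻¹ ∈ Z
  exp : ∀ a ∈ P₁, a ^ p = 1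
  center : ∀ a ∈ P₁, (∀ b ∈ P₁, a * b = b * a) → a ∈ Z
  nonab : ∃ a ∈ P₁, ∃ b ∈ P₁, a * b ≠ b * a

theorem extra_of_card_cube {p : ℕ} [hp : Fact p.Prime] {P₁ : Subgroup G}
    (hc : Nat.card ↥P₁ = p ^ 3) (hna : ¬ IsMulCommutative ↥P₁)
    (hexp : Monoid.exponent ↥P₁ = p) :
    Extra p P₁ (P₁ ⊓ Subgroup.centralizer (P₁ : Set G)) := by
  have hna' : ¬ ∀ x y : ↥P₁, x * y = y * x := fun h => hna ⟨⟨h⟩⟩
  obtain ⟨h1, h2⟩ := center_card_of_card_cube p hc hna'
  have hmap : (Subgroup.center ↥P₁).map P₁.subtype = P₁ ⊓ Subgroup.centralizer (P₁ : Set G) := by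
    ext x
    rw [Subgroup.mem_map, Subgroup.mem_inf]
    constructor
    · rintro ⟨y, hy, rfl⟩
      refine ⟨y.2, ?_⟩
      rw [Subgroup.mem_centralizer_iff]
      intro b hb
      have := Subgroup.mem_center_iff.1 hy ⟨b, hb⟩
      exact congrArg Subtype.val this
    · rintro ⟨hx, hxc⟩
      refine ⟨⟨x, hx⟩, ?_, rfl⟩
      rw [Subgroup.mem_center_iff]
      intro b
      apply Subtype.ext
      exact (Subgroup.mem_centralizer_iff.1 hxc) b.1 b.2
  refine ⟨inf_le_left, ?_, ?_, ?_, ?_, ?_, ?_⟩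
  · rw [← hmap, Subgroup.card_map_of_injective (Subgroup.subtype_injective P₁)]
    exact h1
  · intro z hz a ha
    exact ((Subgroup.mem_centralizer_iff.1 (Subgroup.mem_inf.1 hz).2) a ha).symm
  · intro a ha b hb
    rw [← hmap]
    exact ⟨_, h2 ⟨a, ha⟩ ⟨b, hb⟩, rfl⟩
  · intro a ha
    have := Monoid.pow_exponent_eq_one (⟨a, ha⟩ : ↥P₁)
    rw [hexp] at this
    exact congrArg Subtype.val this
  · intro a ha h
    refine Subgroup.mem_inf.2 ⟨ha, ?_⟩
    rw [Subgroup.mem_centralizer_iff]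
    intro b hb
    exact (h b hb).symm
  · by_contra hcon
    push Not at hcon
    apply hna'
    intro x y
    exact Subtype.ext (hcon x.1 x.2 y.1 y.2)

theorem mem_sup_of_comm {A B : Subgroup G} (hc : ∀ a ∈ A, ∀ b ∈ B, a * b = b * a) {x : G}
    (hx : x ∈ A ⊔ B) : ∃ a ∈ A, ∃ b ∈ B, x = a * b := by
  rw [Subgroup.sup_eq_closure] at hx
  induction hx using Subgroup.closure_induction with
  | mem x hx =>
    rcases hx with hx | hx
    · exact ⟨x, hx, 1, B.one_mem, (mul_one x).symm⟩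
    · exact ⟨1, A.one_mem, x, hx, (one_mul x).symm⟩
  | one => exact ⟨1, A.one_mem, 1, B.one_mem, (mul_one 1).symm⟩
  | mul x y _ _ hx hy =>
    obtain ⟨a, ha, b, hb, rfl⟩ := hx
    obtain ⟨a', ha', b', hb', rfl⟩ := hy
    refine ⟨a * a', A.mul_mem ha ha', b * b', B.mul_mem hb hb', ?_⟩
    calc a * b * (a' * b') = a * (b * a') * b' := by group
      _ = a * (a' * b) * b' := by rw [hc a' ha' b hb]
      _ = a * a' * (b * b') := by group
  | inv x _ hx =>
    obtain ⟨a, ha, b, hb, rfl⟩ := hx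
    refine ⟨a⁻¹, A.inv_mem ha, b⁻¹, B.inv_mem hb, ?_⟩
    rw [mul_inv_rev]
    have := hc a⁻¹ (A.inv_mem ha) b⁻¹ (B.inv_mem hb)
    exact this.symm

namespace Extra

variable {p : ℕ} [hp : Fact p.Prime] {P₁ Z : Subgroup G}

theorem orderOf_eq (h : Extra p P₁ Z) {a : G} (ha : a ∈ P₁) (ha1 : a ≠ 1) : orderOf a = p := by
  have : orderOf a ∣ p := orderOf_dvd_of_pow_eq_one (h.exp a ha)
  rcases (Nat.dvd_prime hp.out).1 this with h1 | h1
  · exact absurd (orderOf_eq_one_iff.1 h1) ha1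
  · exact h1

/-- a subgroup of order `p` of `P₁` is generated by any of its nonidentity elements -/
theorem zpowers_eq_of_mem (h : Extra p P₁ Z) {X : Subgroup G} (hX : X ≤ P₁)
    (hXc : Nat.card ↥X = p) {x : G} (hx : x ∈ X) (hx1 : x ≠ 1) : Subgroup.zpowers x = X := by
  apply Subgroup.eq_of_le_of_card_ge (Subgroup.zpowers_le.2 hx)
  rw [hXc, Nat.card_zpowers, h.orderOf_eq (hX hx) hx1]

theorem card_zpowers (h : Extra p P₁ Z) {a : G} (ha : a ∈ P₁) (ha1 : a ≠ 1) :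
    Nat.card ↥(Subgroup.zpowers a) = p := by
  rw [Nat.card_zpowers, h.orderOf_eq ha ha1]

theorem ne_one_of_not_mem (h : Extra p P₁ Z) {a : G} (haZ : a ∉ Z) : a ≠ 1 := by
  rintro rfl
  exact haZ Z.one_mem

theorem exists_not_comm (h : Extra p P₁ Z) {a : G} (ha : a ∈ P₁) (haZ : a ∉ Z) :
    ∃ v ∈ P₁, v * a ≠ a * v := by
  by_contra hcon
  push Not at hcon
  exact haZ (h.center a ha (fun b hb => (hcon b hb).symm))

theorem conj_pow (h : Extra p P₁ Z) {a v : G} (ha : a ∈ P₁) (hv : v ∈ P₁) (k : ℕ) :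
    v ^ k * a * (v ^ k)⁻¹ = a * (v * a * v⁻¹ * a⁻¹) ^ k := by
  have hz : v * a * v⁻¹ * a⁻¹ ∈ Z := h.comm v hv a ha
  induction k with
  | zero => simp
  | succ k ih =>
    have hzk : (v * a * v⁻¹ * a⁻¹) ^ k ∈ Z := Z.pow_mem hz k
    have hzk' : v * (v * a * v⁻¹ * a⁻¹) ^ k * v⁻¹ = (v * a * v⁻¹ * a⁻¹) ^ k := by
      rw [← h.central _ hzk v hv]; group
    calc v ^ (k + 1) * a * (v ^ (k + 1))⁻¹ = v * (v ^ k * a * (v ^ k)⁻¹) * v⁻¹ := by
          rw [pow_succ']; group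
      _ = v * (a * (v * a * v⁻¹ * a⁻¹) ^ k) * v⁻¹ := by rw [ih]
      _ = (v * a * v⁻¹ * a⁻¹) * a * (v * (v * a * v⁻¹ * a⁻¹) ^ k * v⁻¹) := by group
      _ = (v * a * v⁻¹ * a⁻¹) * a * (v * a * v⁻¹ * a⁻¹) ^ k := by rw [hzk']
      _ = a * (v * a * v⁻¹ * a⁻¹) * (v * a * v⁻¹ * a⁻¹) ^ k := by rw [h.central _ hz a ha]
      _ = a * (v * a * v⁻¹ * a⁻¹) ^ (k + 1) := by rw [pow_succ', mul_assoc]

/-- the elementary abelian subgroup `Z ⊔ ⟨a⟩` of order `p²` -/
theorem elem_sup (h : Extra p P₁ Z) {a : G} (ha : a ∈ P₁) (haZ : a ∉ Z) :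
    Z ⊔ Subgroup.zpowers a ≤ P₁ ∧ Cfsg.IsElementaryAbelian p (Z ⊔ Subgroup.zpowers a) ∧
      Nat.card ↥(Z ⊔ Subgroup.zpowers a) = p ^ 2 := by
  have ha1 : a ≠ 1 := h.ne_one_of_not_mem haZ
  have hZe : Cfsg.IsElementaryAbelian p Z :=
    ⟨⟨⟨fun x y => Subtype.ext (h.central x x.2 y (h.le y.2))⟩⟩, fun z hz => h.exp z (h.le hz)⟩
  have hac : a ∈ Subgroup.centralizer (Z : Set G) := by
    rw [Subgroup.mem_centralizer_iff]
    intro z hz
    exact h.central z hz a ha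
  refine ⟨sup_le h.le (Subgroup.zpowers_le.2 ha),
    Cfsg.Agent.H1.isElementaryAbelian_sup_zpowers p Z hZe a hac (h.exp a ha), ?_⟩
  have hLE : Z ≤ Subgroup.normalizer ((Subgroup.zpowers a : Subgroup G) : Set G) := by
    refine le_trans ?_ (Subgroup.centralizer_le_normalizer _)
    intro z hz
    rw [centralizer_zpowers_eq, Subgroup.mem_centralizer_singleton_iff]
    exact h.central z hz a ha
  have hcard := Cfsg.Agent.H1.card_sup_mul_card_inf Z (Subgroup.zpowers a) hLE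
  have hca : Nat.card ↥(Subgroup.zpowers a) = p := h.card_zpowers ha ha1
  have hinf : Nat.card ↥(Z ⊓ Subgroup.zpowers a) = 1 := by
    have hdvd : Nat.card ↥(Z ⊓ Subgroup.zpowers a) ∣ p := by
      rw [← h.cardZ]; exact Subgroup.card_dvd_of_le inf_le_left
    rcases (Nat.dvd_prime hp.out).1 hdvd with h1 | h1
    · exact h1
    · exfalso
      have e1 : Z ⊓ Subgroup.zpowers a = Z :=
        Subgroup.eq_of_le_of_card_ge inf_le_left (by rw [h1, h.cardZ])
      have e2 : Z ⊓ Subgroup.zpowers a = Subgroup.zpowers a :=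
        Subgroup.eq_of_le_of_card_ge inf_le_right (by rw [h1, hca])
      apply haZ
      rw [← e1, e2]
      exact Subgroup.mem_zpowers a
  rw [hinf, mul_one, h.cardZ, hca] at hcard
  rw [hcard, sq]

/-- Sub-lemma T: the subgroups of order `p` of `Z ⊔ ⟨a⟩` other than `Z` are conjugate to `⟨a⟩`
under `P₁` -/
theorem subT (h : Extra p P₁ Z) {a : G} (ha : a ∈ P₁) (haZ : a ∉ Z) {B₀ : Subgroup G}
    (hB : B₀ ≤ Z ⊔ Subgroup.zpowers a) (hBc : Nat.card ↥B₀ = p) (hBZ : B₀ ≠ Z) :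
    ∃ u ∈ P₁, B₀ = cj u (Subgroup.zpowers a) := by
  have ha1 : a ≠ 1 := h.ne_one_of_not_mem haZ
  obtain ⟨hAP, -, -⟩ := h.elem_sup ha haZ
  have hBP : B₀ ≤ P₁ := hB.trans hAP
  haveI : Nontrivial ↥B₀ := Finite.one_lt_card_iff_nontrivial.1 (by rw [hBc]; exact hp.out.one_lt)
  obtain ⟨⟨b, hb⟩, hb1'⟩ := exists_ne (1 : ↥B₀)
  have hb1 : b ≠ 1 := fun hh => hb1' (Subtype.ext hh)
  have hcomm : ∀ z ∈ Z, ∀ y ∈ Subgroup.zpowers a, z * y = y * z := by
    intro z hz y hy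
    exact h.central z hz y (Subgroup.zpowers_le.2 ha hy)
  obtain ⟨z, hz, y, hy, hbzy⟩ := mem_sup_of_comm hcomm (hB hb)
  have hyP : y ∈ P₁ := Subgroup.zpowers_le.2 ha hy
  have hy1 : y ≠ 1 := by
    rintro rfl
    rw [mul_one] at hbzy
    apply hBZ
    rw [← h.zpowers_eq_of_mem hBP hBc hb hb1, hbzy]
    exact h.zpowers_eq_of_mem h.le h.cardZ hz (by rw [← hbzy]; exact hb1)
  have hya : Subgroup.zpowers y = Subgroup.zpowers a :=
    h.zpowers_eq_of_mem (Subgroup.zpowers_le.2 ha) (h.card_zpowers ha ha1) hy hy1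
  have hay : a ∈ Subgroup.zpowers y := by rw [hya]; exact Subgroup.mem_zpowers a
  obtain ⟨j, hj⟩ := Subgroup.mem_zpowers_iff.1 hay
  -- `a * z' ∈ B₀`
  have hzy : Commute z y := hcomm z hz y hy
  have hbj : b ^ j = a * z ^ j := by
    rw [hbzy, hzy.mul_zpow, hj]
    exact h.central _ (Z.zpow_mem hz j) a ha
  have hmem : a * z ^ j ∈ B₀ := by rw [← hbj]; exact B₀.zpow_mem hb j
  have hne1 : a * z ^ j ≠ 1 := by
    intro hh
    apply haZ
    have : a = (z ^ j)⁻¹ := eq_inv_of_mul_eq_one_left hh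
    rw [this]
    exact Z.inv_mem (Z.zpow_mem hz j)
  obtain ⟨v, hv, hva⟩ := h.exists_not_comm ha haZ
  have hz₀ : v * a * v⁻¹ * a⁻¹ ∈ Z := h.comm v hv a ha
  have hz₀1 : v * a * v⁻¹ * a⁻¹ ≠ 1 := by
    intro hh
    apply hva
    have : v * a = (v * a * v⁻¹ * a⁻¹) * (a * v) := by group
    rw [this, hh, one_mul]
  have hZgen : Subgroup.zpowers (v * a * v⁻¹ * a⁻¹) = Z :=
    h.zpowers_eq_of_mem h.le h.cardZ hz₀ hz₀1
  have hzj : z ^ j ∈ Subgroup.zpowers (v * a * v⁻¹ * a⁻¹) := by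
    rw [hZgen]; exact Z.zpow_mem hz j
  obtain ⟨k, hk⟩ := (Submonoid.mem_powers_iff _ _).1 (mem_powers_iff_mem_zpowers.2 hzj)
  refine ⟨v ^ k, P₁.pow_mem hv k, ?_⟩
  have hconj : cj (v ^ k) (Subgroup.zpowers a) = Subgroup.zpowers (a * z ^ j) := by
    show (Subgroup.zpowers a).map (MulAut.conj (v ^ k)).toMonoidHom = _
    rw [MonoidHom.map_zpowers]
    congr 1
    show v ^ k * a * (v ^ k)⁻¹ = _
    rw [h.conj_pow ha hv k, hk]
  rw [hconj]
  exact (h.zpowers_eq_of_mem hBP hBc hmem hne1).symm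

end Extra

end Cfsg.Agent.H2.BG12
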