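import Mathlib
import Cfsg.Agent.H2.BG12.D
import Cfsg.Agent.H2.HyperplaneGen

/-!
# Generation of a `p'`-group acted on by an extraspecial group (for B&G 12.12, S1422)
-/

set_option autoImplicit false
set_option linter.unusedVariables false
set_option linter.unusedSectionVars false
set_option linter.style.haveILetI false

open scoped commutatorElement Pointwise

namespace Cfsg.Agent.H2.BG12

open Cfsg Cfsg.Agent.Lib.Helper8.BGTen

universe u

/-- generation lemma, in a group where `Z` is normal -/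
theorem gen_quot {H : Type*} [Group H] [Finite H] {p : ℕ} [hp : Fact p.Prime]
    (Z P₁ K T : Subgroup H) [Z.Normal]
    (hZc : ∀ z ∈ Z, ∀ a ∈ P₁, z * a = a * z)
    (hcomm : ∀ a ∈ P₁, ∀ b ∈ P₁, a * b * a⁻¹ * b⁻¹ ∈ Z)
    (hexp : ∀ a ∈ P₁, a ^ p = 1)
    (hna : ∃ a ∈ P₁, ∃ b ∈ P₁, a * b ≠ b * a)
    (hpK : ¬ p ∣ Nat.card ↥K)
    (hKZ : ∀ x ∈ K, x ∈ Z → x = 1)
    (hPK : P₁ ≤ Subgroup.normalizer (K : Set H))
    (hT : ∀ b ∈ P₁, b ∉ Z → ∀ k ∈ K, k * b = b * k → k ∈ T) : K ≤ T := by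
  classical
  let f : H →* H ⧸ Z := QuotientGroup.mk' Z
  have hf1 : ∀ x : H, f x = 1 ↔ x ∈ Z := fun x => QuotientGroup.eq_one_iff x
  have hAq : Cfsg.IsElementaryAbelian p (P₁.map f) := by
    refine ⟨⟨⟨?_⟩⟩, ?_⟩
    · rintro ⟨x, hx⟩ ⟨y, hy⟩
      obtain ⟨a, ha, rfl⟩ := Subgroup.mem_map.1 hx
      obtain ⟨b, hb, rfl⟩ := Subgroup.mem_map.1 hy
      apply Subtype.ext
      show f a * f b = f b * f a
      have h1 : f (a * b * a⁻¹ * b⁻¹) = 1 := (hf1 _).2 (hcomm a ha b hb)
      rw [map_mul, map_mul, map_mul, map_inv, map_inv] at h1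
      calc f a * f b = (f a * f b * (f a)⁻¹ * (f b)⁻¹) * (f b * f a) := by group
        _ = f b * f a := by rw [h1, one_mul]
    · intro x hx
      obtain ⟨a, ha, rfl⟩ := Subgroup.mem_map.1 hx
      rw [← map_pow, hexp a ha, map_one]
  have hKq : ¬ p ∣ Nat.card ↥(K.map f) := fun h => hpK (h.trans (Subgroup.card_map_dvd K f))
  have hN : P₁.map f ≤ Subgroup.normalizer ((K.map f : Subgroup (H ⧸ Z)) : Set (H ⧸ Z)) :=
    (Subgroup.map_mono hPK).trans (Subgroup.le_normalizer_map f)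
  have hgen := Cfsg.Agent.H2.HyperGen.eq_hyperGen (P₁.map f) (K.map f) hAq hKq hN
  have hle : K.map f ≤ (K ⊓ T).map f := by
    refine le_trans hgen.le ?_
    apply iSup_le
    rintro ⟨B, hBA, hBind⟩
    show K.map f ⊓ Subgroup.centralizer (B : Set (H ⧸ Z)) ≤ (K ⊓ T).map f
    -- a nonidentity element of `B`
    have hex : ∃ x ∈ P₁, x ∉ Z ∧ f x ∈ B := by
      by_contra hcon
      push Not at hcon
      have hBbot : B = ⊥ := by
        rw [Subgroup.eq_bot_iff_forall]
        intro y hy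
        obtain ⟨x, hx, rfl⟩ := Subgroup.mem_map.1 (hBA hy)
        by_contra hne
        exact hcon x hx (fun hxZ => hne ((hf1 x).2 hxZ)) hy
      rw [hBbot, Subgroup.relIndex_bot_left] at hBind
      obtain ⟨a, ha, b, hb, hab⟩ := hna
      have hbZ : b ∉ Z := fun hbZ => hab (hZc b hbZ a ha).symm
      have hfb1 : f b ≠ 1 := fun hh => hbZ ((hf1 b).1 hh)
      have hord : orderOf (f b) = p := by
        have : orderOf (f b) ∣ p := by
          apply orderOf_dvd_of_pow_eq_one
          rw [← map_pow, hexp b hb, map_one]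
        rcases (Nat.dvd_prime hp.out).1 this with h1 | h1
        · exact absurd (orderOf_eq_one_iff.1 h1) hfb1
        · exact h1
      have hzle : Subgroup.zpowers (f b) ≤ P₁.map f :=
        Subgroup.zpowers_le.2 (Subgroup.mem_map_of_mem f hb)
      have hzeq : Subgroup.zpowers (f b) = P₁.map f :=
        Subgroup.eq_of_le_of_card_ge hzle (by rw [Nat.card_zpowers, hord]; exact hBind)
      have hfa : f a ∈ Subgroup.zpowers (f b) := by
        rw [hzeq]; exact Subgroup.mem_map_of_mem f ha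
      obtain ⟨i, hi⟩ := Subgroup.mem_zpowers_iff.1 hfa
      have hz : (b ^ i)⁻¹ * a ∈ Z := by
        rw [← hf1, map_mul, map_inv, map_zpow, hi, inv_mul_cancel]
      apply hab
      have hzb := hZc _ hz b hb
      have e : a = b ^ i * ((b ^ i)⁻¹ * a) := by group
      have hbi : b ^ i * b = b * b ^ i := by
        rw [← zpow_add_one, ← zpow_one_add, add_comm]
      calc a * b = b ^ i * (((b ^ i)⁻¹ * a) * b) := by group
        _ = b ^ i * (b * ((b ^ i)⁻¹ * a)) := by rw [hzb]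
        _ = (b ^ i * b) * ((b ^ i)⁻¹ * a) := by group
        _ = (b * b ^ i) * ((b ^ i)⁻¹ * a) := by rw [hbi]
        _ = b * a := by group
    obtain ⟨x, hx, hxZ, hfx⟩ := hex
    intro y hy
    rw [Subgroup.mem_inf] at hy
    obtain ⟨k, hk, rfl⟩ := Subgroup.mem_map.1 hy.1
    have hc := (Subgroup.mem_centralizer_iff.1 hy.2) (f x) hfx
    -- hc : f x * f k = f k * f x
    have hcZ : k * x * k⁻¹ * x⁻¹ ∈ Z := by
      rw [← hf1, map_mul, map_mul, map_mul, map_inv, map_inv, ← hc]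
      group
    have hcK : k * x * k⁻¹ * x⁻¹ ∈ K := by
      have h1 : x * k⁻¹ * x⁻¹ ∈ K :=
        (Subgroup.mem_normalizer_iff.1 (hPK hx) k⁻¹).1 (K.inv_mem hk)
      have e : k * x * k⁻¹ * x⁻¹ = k * (x * k⁻¹ * x⁻¹) := by group
      rw [e]
      exact K.mul_mem hk h1
    have h1 := hKZ _ hcK hcZ
    have hkx : k * x = x * k := by
      have e : k * x = (k * x * k⁻¹ * x⁻¹) * (x * k) := by group
      rw [e, h1, one_mul]
    exact Subgroup.mem_map_of_mem f (Subgroup.mem_inf.2 ⟨hk, hT x hx hxZ k hk hkx⟩)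
  intro k hk
  obtain ⟨t, ht, hft⟩ := Subgroup.mem_map.1 (hle (Subgroup.mem_map_of_mem f hk))
  have hZ' : t⁻¹ * k ∈ Z := by
    rw [← hf1, map_mul, map_inv, hft, inv_mul_cancel]
  have h1 := hKZ _ (K.mul_mem (K.inv_mem ht.1) hk) hZ'
  have : k = t := by
    have e : k = t * (t⁻¹ * k) := by group
    rw [e, h1, mul_one]
  rw [this]
  exact ht.2

variable {G : Type u} [Group G] [Finite G]

/-- Sub-lemma G: a `p'`-group `K` centralizing `Z` and normalized by `P₁` is generated by the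
centralizers in `K` of the noncentral elements of `P₁` -/
theorem Extra.gen {p : ℕ} [hp : Fact p.Prime] {P₁ Z : Subgroup G} (h : Extra p P₁ Z)
    {K T : Subgroup G} (hpK : ¬ p ∣ Nat.card ↥K)
    (hPK : P₁ ≤ Subgroup.normalizer (K : Set G))
    (hKZ : K ≤ Subgroup.centralizer (Z : Set G))
    (hT : ∀ b ∈ P₁, b ∉ Z → K ⊓ Subgroup.centralizer ({b} : Set G) ≤ T) : K ≤ T := by
  set Y : Subgroup G := Subgroup.centralizer (Z : Set G) with hY
  have hPY : P₁ ≤ Y := by
    intro a ha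
    rw [hY, Subgroup.mem_centralizer_iff]
    intro z hz
    exact h.central z hz a ha
  have hZY : Z ≤ Y := h.le.trans hPY
  haveI : (Z.subgroupOf Y).Normal :=
    (Subgroup.normal_subgroupOf_iff_le_normalizer hZY).2 (Subgroup.centralizer_le_normalizer _)
  have key : K.subgroupOf Y ≤ T.subgroupOf Y := by
    apply gen_quot (p := p) (Z.subgroupOf Y) (P₁.subgroupOf Y) (K.subgroupOf Y) (T.subgroupOf Y)
    · intro z hz a ha
      exact Subtype.ext (h.central z.1 (Subgroup.mem_subgroupOf.1 hz) a.1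
        (Subgroup.mem_subgroupOf.1 ha))
    · intro a ha b hb
      rw [Subgroup.mem_subgroupOf]
      exact h.comm a.1 (Subgroup.mem_subgroupOf.1 ha) b.1 (Subgroup.mem_subgroupOf.1 hb)
    · intro a ha
      apply Subtype.ext
      rw [Subgroup.coe_pow]
      exact h.exp a.1 (Subgroup.mem_subgroupOf.1 ha)
    · obtain ⟨a, ha, b, hb, hab⟩ := h.nonab
      exact ⟨⟨a, hPY ha⟩, Subgroup.mem_subgroupOf.2 ha, ⟨b, hPY hb⟩, Subgroup.mem_subgroupOf.2 hb,
        fun hh => hab (congrArg Subtype.val hh)⟩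
    · rw [Cfsg.Agent.Lib.Helper7.card_subgroupOf_of_le hKZ]
      exact hpK
    · intro x hxK hxZ
      rw [Subgroup.mem_subgroupOf] at hxK hxZ
      apply Subtype.ext
      show (x : G) = 1
      have h1 : orderOf (x : G) ∣ p := orderOf_dvd_of_pow_eq_one (h.exp _ (h.le hxZ))
      have h2 : orderOf (x : G) ∣ Nat.card ↥K := by
        have := orderOf_dvd_natCard (⟨x.1, hxK⟩ : ↥K)
        rwa [Subgroup.orderOf_mk] at this
      rcases (Nat.dvd_prime hp.out).1 h1 with h3 | h3
      · exact orderOf_eq_one_iff.1 h3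
      · exact absurd (h3 ▸ h2) hpK
    · intro a ha
      rw [Subgroup.mem_subgroupOf] at ha
      rw [Subgroup.mem_normalizer_iff]
      intro k
      rw [Subgroup.mem_subgroupOf, Subgroup.mem_subgroupOf]
      exact (Subgroup.mem_normalizer_iff.1 (hPK ha)) k.1
    · intro b hb hbZ k hk hkb
      rw [Subgroup.mem_subgroupOf] at hb hbZ hk ⊢
      apply hT b.1 hb hbZ
      rw [Subgroup.mem_inf]
      refine ⟨hk, ?_⟩
      rw [Subgroup.mem_centralizer_singleton_iff]
      exact congrArg Subtype.val hkb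
  intro k hk
  have : (⟨k, hKZ hk⟩ : ↥Y) ∈ T.subgroupOf Y := key (Subgroup.mem_subgroupOf.2 hk)
  exact Subgroup.mem_subgroupOf.1 this

end Cfsg.Agent.H2.BG12
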