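import Mathlib
import Cfsg.Agent.H2.BG12.E
import Cfsg.Agent.S1412
import Cfsg.Agent.S1403
import Cfsg.Agent.S1404
import Cfsg.Agent.S1461

/-!
# B&G 12.12 (S1422): nonabelian `p`-subgroups are uniqueness subgroups, from the statements of
S1416, S1417
-/

set_option autoImplicit false
set_option linter.unusedVariables false
set_option linter.unusedSectionVars false
set_option linter.style.haveILetI false

open scoped commutatorElement Pointwise

namespace Cfsg.Agent.H2.BG12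

open Cfsg Cfsg.Agent.Lib.Helper8.BGTen Cfsg.Agent.Lib.Helper4.BGTrans Cfsg.Agent.H2.BG11
open Cfsg.Agent.H2.BGU
open Cfsg.Agent.Lib.Helper7 (IsSylowIn exists_isSylowIn_ge)

universe u

variable {G : Type u} [Group G] [Finite G]

/-- (A1): `C_G(Z) ≤ M` -/
theorem centralizer_Z_le (hG : Cfsg.IsMinSimpleOddOrder G) (h16 : St1416 G)
    {M : Subgroup G} (hM : IsCoatom M) {p : ℕ} [hp : Fact p.Prime] {S P₁ Z : Subgroup G}
    (hS : IsSylowIn p S ⊤) (hSM : S ≤ M) (hNS : Subgroup.normalizer (S : Set G) ≤ M)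
    (h : Extra p P₁ Z) (hP₁S : P₁ ≤ S) (hZS : S ≤ Subgroup.centralizer (Z : Set G)) :
    Subgroup.centralizer (Z : Set G) ≤ M := by
  set C : Subgroup G := Subgroup.centralizer (Z : Set G) with hC
  -- `C` is proper
  have hZ1 : ∃ z ∈ Z, z ≠ 1 := by
    haveI : Nontrivial ↥Z :=
      Finite.one_lt_card_iff_nontrivial.1 (by rw [h.cardZ]; exact hp.out.one_lt)
    obtain ⟨⟨z, hz⟩, hz1⟩ := exists_ne (1 : ↥Z)
    exact ⟨z, hz, fun hh => hz1 (Subtype.ext hh)⟩
  obtain ⟨z, hz, hz1⟩ := hZ1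
  have hCtop : C ≠ ⊤ := by
    intro hh
    apply Cfsg.Agent.Lib.Helper4.BGUniq.centralizer_singleton_ne_top hG hz1
    rw [eq_top_iff, ← hh]
    apply Subgroup.centralizer_le
    rw [Set.singleton_subset_iff]
    exact hz
  have hpl : Cfsg.PLengthLE p 1 ↥C := plen hG p C hCtop
  obtain ⟨R, hR⟩ := (sylIn_of_sylIn_top hS hZS).exists_sylow
  obtain ⟨K, hKn, hKp, hKR⟩ := Cfsg.Agent.S1461.main p hpl R
  haveI := hKn
  -- `K ≤ M`
  have hK'M : K.map C.subtype ≤ M := by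
    apply h.gen (K := K.map C.subtype) (T := M)
    · rw [Subgroup.card_map_of_injective (Subgroup.subtype_injective C)]
      exact (Nat.Prime.coprime_iff_not_dvd hp.out).1 hKp.symm
    · have h1 := Subgroup.le_normalizer_map (H := K) C.subtype
      rw [Subgroup.normalizer_eq_top, ← MonoidHom.range_eq_map, Subgroup.range_subtype] at h1
      exact (hP₁S.trans hZS).trans h1
    · exact Subgroup.map_subtype_le _
    · intro b hb hbZ
      obtain ⟨hAP, hAe, hAc⟩ := h.elem_sup hb hbZ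
      have hAM : Z ⊔ Subgroup.zpowers b ≤ M := (hAP.trans hP₁S).trans hSM
      refine le_trans ?_ (h16 M hM p _ ⟨hAM, hAe, hAc⟩).1
      intro x hx
      rw [Subgroup.mem_inf] at hx
      have hxC : x ∈ C := Subgroup.map_subtype_le _ hx.1
      have hle : Z ⊔ Subgroup.zpowers b ≤ Subgroup.centralizer ({x} : Set G) := by
        apply sup_le
        · intro y hy
          rw [Subgroup.mem_centralizer_singleton_iff]
          exact (Subgroup.mem_centralizer_iff.1 hxC) y hy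
        · rw [Subgroup.zpowers_le, Subgroup.mem_centralizer_singleton_iff]
          exact (Subgroup.mem_centralizer_singleton_iff.1 hx.2).symm
      rw [Subgroup.mem_centralizer_iff]
      intro y hy
      exact Subgroup.mem_centralizer_singleton_iff.1 (hle hy)
  -- `N_C(S) ≤ M`
  have hNM : (Subgroup.normalizer ((R : Subgroup ↥C) : Set ↥C)).map C.subtype ≤ M := by
    refine le_trans ?_ hNS
    rintro _ ⟨n, hn, rfl⟩
    rw [hR] at hn
    show (n : G) ∈ Subgroup.normalizer (S : Set G)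
    rw [Subgroup.mem_normalizer_iff]
    intro g
    constructor
    · intro hg
      have := (Subgroup.mem_normalizer_iff.1 hn ⟨g, hZS hg⟩).1 (Subgroup.mem_subgroupOf.2 hg)
      exact Subgroup.mem_subgroupOf.1 this
    · intro hg
      have hgC : g ∈ C := by
        have h1 : (n : G) * g * (n : G)⁻¹ ∈ C := hZS hg
        have e : g = (n : G)⁻¹ * ((n : G) * g * (n : G)⁻¹) * (n : G) := by group
        rw [e]
        exact C.mul_mem (C.mul_mem (C.inv_mem n.2) h1) n.2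
      have := (Subgroup.mem_normalizer_iff.1 hn ⟨g, hgC⟩).2 (Subgroup.mem_subgroupOf.2 hg)
      exact Subgroup.mem_subgroupOf.1 this
  have htop : (K ⊔ Subgroup.normalizer ((R : Subgroup ↥C) : Set ↥C)).map C.subtype = C := by
    rw [hKR, ← MonoidHom.range_eq_map, Subgroup.range_subtype]
  rw [← htop, Subgroup.map_sup]
  exact sup_le hK'M hNM

/-- (A2): `N_G(Z) ≤ M` -/
theorem normalizer_Z_le (hG : Cfsg.IsMinSimpleOddOrder G) (h16 : St1416 G)
    {M : Subgroup G} (hM : IsCoatom M) {p : ℕ} [hp : Fact p.Prime] (hpσ : p ∈ Cfsg.sigma M)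
    {S P₁ Z : Subgroup G}
    (hS : IsSylowIn p S ⊤) (hSM : S ≤ M) (hNS : Subgroup.normalizer (S : Set G) ≤ M)
    (h : Extra p P₁ Z) (hP₁S : P₁ ≤ S) (hZS : S ≤ Subgroup.centralizer (Z : Set G)) :
    Subgroup.normalizer (Z : Set G) ≤ M := by
  have hC := centralizer_Z_le hG h16 hM hS hSM hNS h hP₁S hZS
  have hZp : IsPGroup p ↥Z := IsPGroup.of_card (n := 1) (by rw [h.cardZ, pow_one])
  have hZ1 : Z ≠ ⊥ := by
    intro hh
    have := h.cardZ
    rw [hh, Subgroup.card_bot] at this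
    exact hp.out.one_lt.ne this
  have hZM : Z ≤ M := (h.le.trans hP₁S).trans hSM
  have h2 := (Cfsg.Agent.S1404.result hG M hM p hpσ Z hZp hZ1 hZM).2
  rw [h2]
  exact sup_le inf_le_left hC

/-- the rank two case -/
theorem rank2_eq (hG : Cfsg.IsMinSimpleOddOrder G) (h16 : St1416 G)
    {M Ms : Subgroup G} (hM : IsCoatom M) (hMs : IsCoatom Ms) {p : ℕ} [hp : Fact p.Prime]
    (hpσ : p ∈ Cfsg.sigma M) (hpσs : p ∈ Cfsg.sigma Ms) {S P₁ Z : Subgroup G}
    (hS : IsSylowIn p S ⊤) (hSM : S ≤ M) (hSMs : S ≤ Ms)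
    (h : Extra p P₁ Z) (hP₁S : P₁ ≤ S) (hZS : S ≤ Subgroup.centralizer (Z : Set G)) :
    M = Ms := by
  have hNS : Subgroup.normalizer (S : Set G) ≤ M :=
    sigma_normalizer_le hpσ (sylIn_of_sylIn_top hS hSM)
  have hNSs : Subgroup.normalizer (S : Set G) ≤ Ms :=
    sigma_normalizer_le hpσs (sylIn_of_sylIn_top hS hSMs)
  have hNZ := normalizer_Z_le hG h16 hM hpσ hS hSM hNS h hP₁S hZS
  have hNZs := normalizer_Z_le hG h16 hMs hpσs hS hSMs hNSs h hP₁S hZS
  -- case (I): `M_σ` nilpotent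
  have caseI : ∀ {L L' : Subgroup G}, IsCoatom L → IsCoatom L' → p ∈ Cfsg.sigma L → S ≤ L →
      Subgroup.normalizer (S : Set G) ≤ L' → Group.IsNilpotent ↥(Cfsg.sigmaCore L) → L = L' := by
    intro L L' hL hL' hpL hSL hNL' hnil
    have h1 : S ≤ Cfsg.sigmaCore L := le_sigmaCore_of_pgroup hG hL hpL hSL hS.isPGroup
    have h2 : S ≤ Oq p (Cfsg.sigmaCore L) := le_Oq_of_isPGroup hnil h1 hS.isPGroup
    have h3 : Oq p (Cfsg.sigmaCore L) = S :=
      sylIn_eq_of_le hS le_top (isPGroup_Oq hp.out _) h2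
    have h4 : L ≤ Subgroup.normalizer (S : Set G) := by
      rw [← h3]
      exact (le_normalizer_sigmaCore L).trans (normalizer_le_normalizer_Oq p _)
    exact ((hL.le_iff_eq hL'.1).1 (h4.trans hNL')).symm
  obtain ⟨a, ha, haZ⟩ : ∃ a ∈ P₁, a ∉ Z := by
    obtain ⟨a, ha, b, hb, hab⟩ := h.nonab
    exact ⟨a, ha, fun haZ => hab (h.central a haZ b hb)⟩
  obtain ⟨hAP, hAe, hAc⟩ := h.elem_sup ha haZ
  have hAS : Z ⊔ Subgroup.zpowers a ≤ S := hAP.trans hP₁S
  have hb := (h16 M hM p _ ⟨hAS.trans hSM, hAe, hAc⟩).2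
  have hbs := (h16 Ms hMs p _ ⟨hAS.trans hSMs, hAe, hAc⟩).2
  by_cases hI : ∀ A₀ : Subgroup G, A₀ ≤ Z ⊔ Subgroup.zpowers a → Nat.card ↥A₀ = p →
      ¬ (Subgroup.normalizer (A₀ : Set G) ≤ M ∧
        ∀ L : Subgroup G, IsCoatom L → Subgroup.normalizer (A₀ : Set G) ≤ L → L = M)
  · exact caseI hM hMs hpσ hSM hNSs (hb hI).2.2
  by_cases hIs : ∀ A₀ : Subgroup G, A₀ ≤ Z ⊔ Subgroup.zpowers a → Nat.card ↥A₀ = p →
      ¬ (Subgroup.normalizer (A₀ : Set G) ≤ Ms ∧
        ∀ L : Subgroup G, IsCoatom L → Subgroup.normalizer (A₀ : Set G) ≤ L → L = Ms)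
  · exact (caseI hMs hM hpσs hSMs hNS (hbs hIs).2.2).symm
  push Not at hI hIs
  obtain ⟨A₀, hA₀A, hA₀c, hA₀N, hA₀u⟩ := hI
  obtain ⟨B₀, hB₀A, hB₀c, hB₀N, hB₀u⟩ := hIs
  by_cases hAZ : A₀ = Z
  · rw [hAZ] at hA₀u
    exact (hA₀u Ms hMs hNZs).symm
  by_cases hBZ : B₀ = Z
  · rw [hBZ] at hB₀u
    exact hB₀u M hM hNZ
  obtain ⟨u, hu, hA₀⟩ := h.subT ha haZ hA₀A hA₀c hAZ
  obtain ⟨v, hv, hB₀⟩ := h.subT ha haZ hB₀A hB₀c hBZ
  have hBA : B₀ = cj (v * u⁻¹) A₀ := by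
    rw [hB₀, hA₀, cj_mul, cj_inv_cj]
  have hwM : v * u⁻¹ ∈ M := hSM (hP₁S (P₁.mul_mem hv (P₁.inv_mem hu)))
  have hNB : Subgroup.normalizer (B₀ : Set G) ≤ M := by
    rw [hBA, ← cj_normalizer, ← cj_eq_of_mem hwM]
    exact cj_mono _ hA₀N
  exact hB₀u M hM hNB

theorem pRankLE_mono {p k l : ℕ} (hp : 0 < p) (hkl : k ≤ l) {X : Type*} [Group X]
    (h : Cfsg.PRankLE p k X) : Cfsg.PRankLE p l X := by
  intro A hA hAe
  exact (h A hA hAe).trans (Nat.pow_le_pow_right hp hkl)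

/-- two maximal subgroups containing a nonabelian `p`-subgroup coincide -/
theorem pair_eq (hG : Cfsg.IsMinSimpleOddOrder G) (h16 : St1416 G) (h17 : St1417 G)
    {p : ℕ} [hp : Fact p.Prime] {P : Subgroup G} (hP : IsPGroup p ↥P)
    (hPna : ¬ IsMulCommutative ↥P) {M Ms : Subgroup G} (hM : IsCoatom M) (hPM : P ≤ M)
    (hMs : IsCoatom Ms) (hPMs : P ≤ Ms) : M = Ms := by
  -- (F1)
  have hσ : ∀ {L : Subgroup G}, IsCoatom L → P ≤ L → p ∈ Cfsg.sigma L := by
    intro L hL hPL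
    by_contra hcon
    apply hPna
    have := comm_of_pgroup_not_sigma hG h17 hL hcon hPL hP
    exact ⟨⟨fun a b => Subtype.ext (this a.1 a.2 b.1 b.2)⟩⟩
  have hpσ := hσ hM hPM
  have hpσs := hσ hMs hPMs
  -- Step 1: a common Sylow subgroup
  obtain ⟨S, hSs, hPS⟩ := exists_isSylowIn_ge hP hPMs
  have hSp : IsPGroup p ↥S := hSs.isPGroup
  have hSM : S ≤ M := by
    have hQp : IsPGroup p ↥(S ⊓ M) := hSp.to_le inf_le_left
    have hnc : ¬ IsCyclic ↥(S ⊓ M) := by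
      intro hcyc
      apply hPna
      refine ⟨⟨fun a b => ?_⟩⟩
      have := hcyc.isMulCommutative.is_comm.comm
        (⟨a.1, Subgroup.mem_inf.2 ⟨hPS a.2, hPM a.2⟩⟩ : ↥(S ⊓ M))
        ⟨b.1, Subgroup.mem_inf.2 ⟨hPS b.2, hPM b.2⟩⟩
      apply Subtype.ext
      show (a : G) * (b : G) = (b : G) * (a : G)
      exact congrArg Subtype.val this
    have hN := part_c hG h16 hM p (S ⊓ M) hpσ hQp inf_le_right hnc
    by_contra hcon
    have hne : S ⊓ M ≠ S := fun hh => hcon (hh ▸ inf_le_right)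
    obtain ⟨t, htS, htN, htQ⟩ := exists_mem_normalizer_not_mem hSp inf_le_left hne
    exact htQ (Subgroup.mem_inf.2 ⟨htS, hN htN⟩)
  have hSMs : S ≤ Ms := hSs.1
  have hS : IsSylowIn p S ⊤ := sigma_sylow_top hpσs hSs
  -- Step 2
  by_cases hr : Cfsg.PRankLE p 2 ↥S
  swap
  · have hStop : S ≠ ⊤ := Cfsg.Agent.H2.BGU.ne_top_of_le_coatom hM hSM
    have hK2 : ¬ Cfsg.RankLE 1 ↥S := fun hh =>
      hr (pRankLE_mono hp.out.pos (by norm_num) (hh p hp.out))
    have hK3 : ¬ Cfsg.RankLE 2 ↥S := fun hh => hr (hh p hp.out)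
    have hU := Cfsg.Agent.S1403.result hG S hStop hK2 (Or.inl hK3)
    exact hU.unique ⟨hM, hSM⟩ ⟨hMs, hSMs⟩
  -- Step 3
  have hcard : Nat.card ↥S = p ^ (Nat.card G).factorization p := by
    rw [hS.2, Subgroup.card_top]
  have h12 := Cfsg.Agent.S1412.result hG p (Sylow.ofCard S hcard) (by
    rw [Sylow.coe_ofCard]; exact hr)
  rw [Sylow.coe_ofCard] at h12
  rcases h12 with hab | ⟨P₁, P₂, hsup, hcomm, hna, hc, hexp, hcyc, hcl⟩
  · exfalso
    apply hPna
    refine ⟨⟨fun a b => ?_⟩⟩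
    have := hab.is_comm.comm (⟨a.1, hPS a.2⟩ : ↥S) ⟨b.1, hPS b.2⟩
    apply Subtype.ext
    show (a : G) * (b : G) = (b : G) * (a : G)
    exact congrArg Subtype.val this
  have h := extra_of_card_cube hc hna hexp
  have hP₁S : P₁ ≤ S := hsup ▸ le_sup_left
  have hZP₂ : P₁ ⊓ Subgroup.centralizer (P₁ : Set G) ≤ P₂ := by
    rw [← hcl, Subgroup.closure_le]
    intro x hx
    exact hx.1
  have hZS : S ≤ Subgroup.centralizer ((P₁ ⊓ Subgroup.centralizer (P₁ : Set G) : Subgroup G) :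
      Set G) := by
    rw [← hsup]
    apply sup_le
    · intro a ha
      rw [Subgroup.mem_centralizer_iff]
      intro z hz
      exact h.central z hz a ha
    · intro b hb
      rw [Subgroup.mem_centralizer_iff]
      intro z hz
      have := hcyc.isMulCommutative.is_comm.comm (⟨z, hZP₂ hz⟩ : ↥P₂) ⟨b, hb⟩
      exact congrArg Subtype.val this
  exact rank2_eq hG h16 hM hMs hpσ hpσs hS hSM hSMs h hP₁S hZS

/-- **B&G 12.12** (S1422), from the statements of S1416 and S1417 -/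
theorem s1422 (hG : Cfsg.IsMinSimpleOddOrder G) (h16 : St1416 G) (h17 : St1417 G)
    (p : ℕ) [Fact p.Prime] (P : Subgroup G) (hP : IsPGroup p ↥P)
    (hPna : ¬ IsMulCommutative ↥P) : Cfsg.InUniqueMaximal P := by
  have hPtop : P ≠ ⊤ := Cfsg.Agent.Lib.Helper4.BGSyl.sylow_ne_top hG hP
  obtain ⟨M, hM, hPM⟩ := Cfsg.Agent.H2.BGU.exists_coatom_ge hPtop
  refine inUniqueMaximal_of_forall hM hPM ?_
  intro Ms hMs hPMs
  exact (pair_eq hG h16 h17 hP hPna hM hPM hMs hPMs).symm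

end Cfsg.Agent.H2.BG12
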