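import Mathlib
import Cfsg.Agent.H2.BG12.F
import Cfsg.Agent.Lib.Helper7.BG127Main
import Cfsg.Agent.Lib.helper3.BG12B
import Cfsg.Agent.S1416
import Cfsg.Agent.S1417
import Cfsg.Agent.S1418
import Cfsg.Agent.S1412
import Cfsg.Agent.S1403
import Cfsg.Agent.S1408
import Cfsg.Agent.Lib.helper3.BG12G

/-!
# The standard decomposition `M = K U M_σ`: elements of `U` with fixed points on `M_σ`
(towards S1361 and S1359)
-/

set_option autoImplicit false
set_option linter.unusedVariables false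
set_option linter.unusedSectionVars false
set_option linter.style.haveILetI false

open scoped commutatorElement Pointwise

namespace Cfsg.Agent.H2.BG12

open Cfsg Cfsg.Agent.Lib.Helper8.BGTen Cfsg.Agent.Lib.Helper4.BGTrans Cfsg.Agent.H2.BG11
open Cfsg.Agent.H2.BGU
open Cfsg.Agent.Lib.Helper7 (IsSylowIn exists_isSylowIn_ge)

universe u

variable {G : Type u} [Group G] [Finite G]

/-! ### an element lies in any subgroup containing its primary parts -/

theorem mem_of_primary_parts {H : Subgroup G} :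
    ∀ (n : ℕ) (u : G), orderOf u = n →
      (∀ q : ℕ, q.Prime → q ∣ orderOf u → ∀ v ∈ Subgroup.zpowers u,
        IsPGroup q ↥(Subgroup.zpowers v) → v ∈ H) → u ∈ H := by
  intro n
  induction n using Nat.strong_induction_on with
  | _ n ih =>
    intro u hn h
    by_cases h1 : n = 1
    · rw [h1, orderOf_eq_one_iff] at hn
      rw [hn]; exact H.one_mem
    have hn0 : n ≠ 0 := by rw [← hn]; exact (orderOf_pos u).ne'
    obtain ⟨q, hq, hqn⟩ := Nat.exists_prime_and_dvd h1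
    haveI : Fact q.Prime := ⟨hq⟩
    obtain ⟨a, m, hqm, hnm⟩ := Nat.exists_eq_pow_mul_and_not_dvd hn0 q hq.ne_one
    have ha0 : a ≠ 0 := by
      rintro rfl
      rw [pow_zero, one_mul] at hnm
      exact hqm (hnm ▸ hqn)
    have hm0 : m ≠ 0 := by
      rintro rfl
      rw [mul_zero] at hnm
      exact hn0 hnm
    have hcop : Nat.Coprime (q ^ a) m := Nat.Coprime.pow_left a ((Nat.Prime.coprime_iff_not_dvd hq).mpr hqm)
    -- `v = u ^ m` has order `q ^ a`
    have hv : orderOf (u ^ m) = q ^ a := by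
      rw [orderOf_pow' u hm0, hn, hnm, Nat.gcd_mul_left_left]
      exact Nat.mul_div_cancel _ (Nat.pos_of_ne_zero hm0)
    have hw : orderOf (u ^ (q ^ a)) = m := by
      rw [orderOf_pow' u (pow_ne_zero a hq.ne_zero), hn, hnm, Nat.gcd_mul_right_left]
      exact Nat.mul_div_cancel_left _ (pow_pos hq.pos a)
    have hvH : u ^ m ∈ H := by
      apply h q hq (hn ▸ hqn) _ (Subgroup.pow_mem _ (Subgroup.mem_zpowers u) m)
      apply IsPGroup.of_card (n := a)
      rw [Nat.card_zpowers, hv]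
    have hmn : m < n := by
      rw [hnm]
      have : 1 < q ^ a := Nat.one_lt_pow ha0 hq.one_lt
      nlinarith [Nat.pos_of_ne_zero hm0]
    have hwH : u ^ (q ^ a) ∈ H := by
      apply ih m hmn _ hw
      intro r hr hrd v hv' hvr
      apply h r hr _ v _ hvr
      · rw [hw] at hrd
        rw [hn, hnm]
        exact hrd.trans (Dvd.intro_left _ rfl)
      · exact (Subgroup.zpowers_le.mpr (Subgroup.pow_mem _ (Subgroup.mem_zpowers u) _)) hv'
    -- Bezout
    have hco : IsCoprime ((q ^ a : ℕ) : ℤ) (m : ℤ) := Nat.isCoprime_iff_coprime.mpr hcop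
    obtain ⟨α, β, hαβ⟩ := hco
    have : u = (u ^ (q ^ a)) ^ α * (u ^ m) ^ β := by
      rw [← zpow_natCast u (q ^ a), ← zpow_natCast u m, ← zpow_mul, ← zpow_mul, ← zpow_add]
      have : ((q ^ a : ℕ) : ℤ) * α + (m : ℤ) * β = 1 := by rw [← hαβ]; ring
      rw [this, zpow_one]
    rw [this]
    exact H.mul_mem (H.zpow_mem hwH α) (H.zpow_mem hvH β)

/-! ### the standard decomposition `M = K U M_σ` -/

section decomposition

variable {M K U : Subgroup G}

/-- `|U| = |M : K M_σ|` -/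
theorem card_U_eq (h : Cfsg.IsSigmaDecomposition M K U) :
    Nat.card ↥U = (K ⊔ Cfsg.sigmaCore M).relIndex M := by
  have h1 := Cfsg.Agent.Lib.BG127H7.card_of_isComplIn h.compl
  have h2 := Cfsg.Agent.H1.card_eq_relIndex_mul_card h.compl.2.1
  rw [h1] at h2
  exact Nat.eq_of_mul_eq_mul_right Nat.card_pos h2

theorem card_U_dvd_relIndex {J : Subgroup G} (h : Cfsg.IsSigmaDecomposition M K U)
    (hJ : J ≤ K ⊔ Cfsg.sigmaCore M) : Nat.card ↥U ∣ J.relIndex M := by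
  rw [card_U_eq h, ← Subgroup.relIndex_mul_relIndex J _ M hJ h.compl.2.1]
  exact Dvd.intro_left _ rfl

/-- primes dividing `|U|` are not in `σ(M)` -/
theorem not_mem_sigma_of_dvd_U (hG : Cfsg.IsMinSimpleOddOrder G) (hM : IsCoatom M)
    (h : Cfsg.IsSigmaDecomposition M K U) {r : ℕ} (hr : r.Prime) (hd : r ∣ Nat.card ↥U) :
    r ∉ Cfsg.sigma M := by
  intro hrσ
  exact (sigmaCore_hallOf hG hM).2.2 r hr hrσ (hd.trans (card_U_dvd_relIndex h le_sup_right))

/-- primes dividing `|U|` are not in `κ(M)` -/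
theorem not_mem_kappa_of_dvd_U (h : Cfsg.IsSigmaDecomposition M K U) {r : ℕ} (hr : r.Prime)
    (hd : r ∣ Nat.card ↥U) : r ∉ Cfsg.kappa M := by
  intro hrκ
  exact h.hall.2.2 r hr hrκ (hd.trans (card_U_dvd_relIndex h le_sup_left))

theorem U_le (h : Cfsg.IsSigmaDecomposition M K U) : U ≤ M := h.compl.1

theorem coprime_U (hG : Cfsg.IsMinSimpleOddOrder G) (hM : IsCoatom M)
    (h : Cfsg.IsSigmaDecomposition M K U) :
    (Nat.card ↥U).Coprime (Nat.card ↥(Cfsg.sigmaCore M)) := by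
  apply Nat.coprime_of_dvd
  intro q hq hd1 hd2
  exact not_mem_sigma_of_dvd_U hG hM h hq hd1 (mem_sigma_of_dvd_sigmaCore hG hM hq hd2)

/-- `U` lies in a complement of `M_σ` -/
theorem exists_compl_ge_U (hG : Cfsg.IsMinSimpleOddOrder G) (hM : IsCoatom M)
    (h : Cfsg.IsSigmaDecomposition M K U) :
    ∃ E : Subgroup G, Cfsg.IsComplIn E (Cfsg.sigmaCore M) M ∧ U ≤ E := by
  obtain ⟨E₀, hE₀⟩ := Cfsg.Agent.Lib.helper3.BG12.exists_compl hG hM
  obtain ⟨m, hm, hU⟩ := exists_cj_compl_ge hG hM hE₀ (U_le h) (coprime_U hG hM h)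
  exact ⟨cj m E₀, compl_cj hE₀ hm, hU⟩

/-- an element of prime order `r` of `U` with a fixed point on `M_σ` has `r ∈ τ₂(M)` -/
theorem mem_tau2_of_fixed_point (hG : Cfsg.IsMinSimpleOddOrder G) (hM : IsCoatom M)
    (h : Cfsg.IsSigmaDecomposition M K U) {x y : G} (hx : x ∈ U) {r : ℕ} (hr : r.Prime)
    (hox : orderOf x = r) (hy : y ∈ Cfsg.sigmaCore M) (hy1 : y ≠ 1) (hxy : x * y = y * x) :
    r ∈ Cfsg.tau2 M := by
  haveI : Fact r.Prime := ⟨hr⟩
  have hxM : x ∈ M := U_le h hx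
  have hdU : r ∣ Nat.card ↥U := by
    have := orderOf_dvd_natCard (⟨x, hx⟩ : ↥U)
    rwa [Subgroup.orderOf_mk, hox] at this
  have hrσ := not_mem_sigma_of_dvd_U hG hM h hr hdU
  have hrκ := not_mem_kappa_of_dvd_U h hr hdU
  have hdM : r ∣ Nat.card ↥M := hdU.trans (Subgroup.card_dvd_of_le (U_le h))
  have h1 : ¬ Cfsg.PRankLE r 1 ↥M := by
    intro h1
    apply hrκ
    refine ⟨hr, hdM, hrσ, fun P => ⟨?_, ?_⟩⟩
    · have hc : IsCyclic ↥((P : Subgroup ↥M).map M.subtype) :=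
        Cfsg.Agent.Lib.Helper4.BGTw.isCyclic_of_pRankLE_one hG h1 (Subgroup.map_subtype_le _)
          (P.isPGroup'.map _)
      exact ((P : Subgroup ↥M).equivMapOfInjective M.subtype M.subtype_injective).isCyclic.mpr hc
    · have hxp : IsPGroup r ↥(Subgroup.zpowers (⟨x, hxM⟩ : ↥M)) := by
        apply IsPGroup.of_card (n := 1)
        rw [Nat.card_zpowers, Subgroup.orderOf_mk, hox, pow_one]
      obtain ⟨Q, hQ⟩ := hxp.exists_le_sylow
      obtain ⟨m, hm⟩ := MulAction.exists_smul_eq ↥M Q P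
      have hxQ : (⟨x, hxM⟩ : ↥M) ∈ (Q : Subgroup ↥M) := hQ (Subgroup.mem_zpowers _)
      have hmx : m * ⟨x, hxM⟩ * m⁻¹ ∈ (P : Subgroup ↥M) := by
        rw [← hm, Sylow.coe_subgroup_smul]
        have := Subgroup.smul_mem_pointwise_smul _ (MulAut.conj m) _ hxQ
        simpa [MulAut.conj_apply] using this
      refine ⟨m * ⟨x, hxM⟩ * m⁻¹, hmx, ?_, (m : G) * y * (m : G)⁻¹, ?_, ?_, ?_⟩
      · intro h0
        have : (⟨x, hxM⟩ : ↥M) = 1 := by
          have e : (⟨x, hxM⟩ : ↥M) = m⁻¹ * (m * ⟨x, hxM⟩ * m⁻¹) * m := by group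
          rw [e, h0]; group
        have hx1 : x = 1 := congrArg Subtype.val this
        rw [hx1, orderOf_one] at hox
        exact hr.one_lt.ne hox
      · exact (Subgroup.mem_normalizer_iff.mp (le_normalizer_sigmaCore M m.2) y).mp hy
      · intro h0
        apply hy1
        have e : y = (m : G)⁻¹ * ((m : G) * y * (m : G)⁻¹) * (m : G) := by group
        rw [e, h0]; group
      · show (m : G) * x * (m : G)⁻¹ * ((m : G) * y * (m : G)⁻¹) =
          (m : G) * y * (m : G)⁻¹ * ((m : G) * x * (m : G)⁻¹)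
        have e1 : (m : G) * x * (m : G)⁻¹ * ((m : G) * y * (m : G)⁻¹) =
            (m : G) * (x * y) * (m : G)⁻¹ := by group
        have e2 : (m : G) * y * (m : G)⁻¹ * ((m : G) * x * (m : G)⁻¹) =
            (m : G) * (y * x) * (m : G)⁻¹ := by group
        rw [e1, e2, hxy]
  have h2 : Cfsg.PRankLE r 2 ↥M := by
    by_contra h2
    exact hrσ (alpha_subset_sigma hG (Cfsg.Agent.H2.BG11.uniq hG) hM ⟨hr, h2⟩)
  exact ⟨hr, hrσ, h2, h1⟩

/-- all prime divisors of the order of an element of `U` with a fixed point on `M_σ` lie in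
`τ₂(M)` -/
theorem forall_mem_tau2_of_fixed_point (hG : Cfsg.IsMinSimpleOddOrder G) (hM : IsCoatom M)
    (h : Cfsg.IsSigmaDecomposition M K U) {x y : G} (hx : x ∈ U)
    (hy : y ∈ Cfsg.sigmaCore M) (hy1 : y ≠ 1) (hxy : x * y = y * x) :
    ∀ r : ℕ, r.Prime → r ∣ orderOf x → r ∈ Cfsg.tau2 M := by
  intro r hr hd
  have hox0 : orderOf x ≠ 0 := (orderOf_pos x).ne'
  apply mem_tau2_of_fixed_point hG hM h (U.pow_mem hx (orderOf x / r)) hr
    (orderOf_pow_orderOf_div hox0 hd) hy hy1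
  exact ((Commute.pow_left (show Commute x y from hxy) _)).eq

end decomposition

/-! ### the abelian case: `τ₂`-elements of `E` lie in the abelian group `F(E)` -/

/-- the statement of B&G Theorem 12.8(a) that is used here (for a fixed group `G`) -/
def St128 (G : Type u) [Group G] [Finite G] : Prop :=
  ∀ (M : Subgroup G), IsCoatom M → ∀ (E : Subgroup G), Cfsg.IsComplIn E (Cfsg.sigmaCore M) M →
    ∀ (p : ℕ) [Fact p.Prime], p ∈ Cfsg.tau2 M → ∀ (A : Subgroup G),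
    (A ≤ E ∧ Cfsg.IsElementaryAbelian p A ∧ Nat.card A = p ^ 2) →
    ∀ S : Sylow p G, IsMulCommutative (S : Subgroup G) → A ≤ (S : Subgroup G) →
      (S : Subgroup G) ≤ E ∧ E ≤ Subgroup.normalizer ((S : Subgroup G) : Set G)

section fit

variable {M E : Subgroup G}

/-- `F(E)` is abelian -/
theorem fittingOf_compl_comm (hG : Cfsg.IsMinSimpleOddOrder G) (hM : IsCoatom M)
    (hE : Cfsg.IsComplIn E (Cfsg.sigmaCore M) M) :
    ∀ a ∈ Cfsg.fittingOf E, ∀ b ∈ Cfsg.fittingOf E, a * b = b * a := by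
  have h17 : St1417 G := fun M hM p _ hp A hA => Cfsg.Agent.S1417.result hG M hM p hp A hA
  have := part_a hG h17 hM (Cfsg.fittingOf E) ((fittingOf_le E).trans hE.1) (fittingOf_nilpotent E)
    (fun p hp hd => not_mem_sigma_of_dvd_compl hG hM hE hp
      (hd.trans (Subgroup.card_dvd_of_le (fittingOf_le E))))
  intro a ha b hb
  exact congrArg Subtype.val (this.is_comm.comm (⟨a, ha⟩ : ↥(Cfsg.fittingOf E)) ⟨b, hb⟩)

/-- if all Sylow `q`-subgroups of `G`, `q ∈ τ₂(M)`, are abelian, then every `τ₂(M)`-element of `E`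
lies in `F(E)` -/
theorem mem_fittingOf_of_tau2 (hG : Cfsg.IsMinSimpleOddOrder G) (h128 : St128 G) (hM : IsCoatom M)
    (hE : Cfsg.IsComplIn E (Cfsg.sigmaCore M) M)
    (hab : ∀ q : ℕ, q ∈ Cfsg.tau2 M → ∀ [Fact q.Prime],
      ∃ S : Sylow q G, IsMulCommutative (S : Subgroup G))
    {u : G} (huE : u ∈ E) (hτ : ∀ r : ℕ, r.Prime → r ∣ orderOf u → r ∈ Cfsg.tau2 M) :
    u ∈ Cfsg.fittingOf E := by
  apply mem_of_primary_parts (orderOf u) u rfl
  intro q hq hqd v hv hvq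
  haveI : Fact q.Prime := ⟨hq⟩
  have hqτ := hτ q hq hqd
  obtain ⟨A, hAE, hAe, hAc⟩ := Cfsg.Agent.Lib.BG127H7.exists_elem_le_compl hE hqτ
  have hAq : IsPGroup q ↥A := isPGroup_of_elementary hAe
  obtain ⟨S, hAS⟩ := hAq.exists_le_sylow
  have hSc : IsMulCommutative (S : Subgroup G) := by
    refine ⟨⟨fun a b => ?_⟩⟩
    apply Subtype.ext
    exact comm_of_sylow_abelian (hab q hqτ) S.isPGroup' (a : G) a.2 (b : G) b.2
  obtain ⟨hSE, hES⟩ := h128 M hM E hE q hqτ A ⟨hAE, hAe, hAc⟩ S hSc hAS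
  have hvE : v ∈ E := (Subgroup.zpowers_le.mpr huE) hv
  have hvS : v ∈ (S : Subgroup G) := by
    have h1 : v ∈ Subgroup.zpowers v ⊓ Subgroup.normalizer ((S : Subgroup G) : Set G) :=
      ⟨Subgroup.mem_zpowers v, hES hvE⟩
    have h2 := hvq.inf_normalizer_sylow S
    have h3 : v ∈ Subgroup.zpowers v ⊓ (S : Subgroup G) := h2 ▸ h1
    exact h3.2
  exact le_fittingOf hSE hES S.isPGroup'.isNilpotent hvS

end fit

/-! ### the unconditional statements -/

theorem st1416 (hG : Cfsg.IsMinSimpleOddOrder G) : St1416 G :=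
  fun M hM p _ A hA => Cfsg.Agent.S1416.result hG M hM p A hA

theorem st1417 (hG : Cfsg.IsMinSimpleOddOrder G) : St1417 G :=
  fun M hM p _ hp A hA => Cfsg.Agent.S1417.result hG M hM p hp A hA

theorem st1418 (hG : Cfsg.IsMinSimpleOddOrder G) : St1418 G :=
  fun M hM E hE p _ hp A hA => Cfsg.Agent.S1418.result hG M hM E hE p hp A hA

/-- the full statement of S1419 -/
theorem s1419 (hG : Cfsg.IsMinSimpleOddOrder G)
    (M : Subgroup G) (hM : IsCoatom M) (E : Subgroup G) (hE : Cfsg.IsComplIn E (Cfsg.sigmaCore M) M)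
    (p : ℕ) [Fact p.Prime] (hp : p ∈ Cfsg.tau2 M)
    (hS : ∀ S : Sylow p G, ¬ IsMulCommutative (S : Subgroup G))
    (A : Subgroup G) (hA : (A ≤ E ∧ Cfsg.IsElementaryAbelian p A ∧ Nat.card A = p ^ 2)) :
    Cfsg.tau2 M = {p} ∧
      (Nat.card ↥(A ⊓ Subgroup.centralizer (Cfsg.sigmaCore M : Set G)) = p ∧
        Cfsg.fittingOf M = Cfsg.sigmaCore M ⊔ (A ⊓ Subgroup.centralizer (Cfsg.sigmaCore M : Set G))) ∧
      ∀ X : Subgroup G, X ≤ E → Nat.card X = p → X ≠ A ⊓ Subgroup.centralizer (Cfsg.sigmaCore M : Set G) →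
        Cfsg.sigmaCore M ⊓ Subgroup.centralizer (X : Set G) = ⊥ ∧ ¬ Subgroup.centralizer (X : Set G) ≤ M :=
  Cfsg.Agent.Lib.BG127H7.s1419_of_hyps hG
    (fun K hK h2 h3 => Cfsg.Agent.S1403.result hG K hK h2 h3)
    (fun p _ P hr => Cfsg.Agent.S1412.result hG p P hr)
    (fun M hM p _ A hA => Cfsg.Agent.S1416.result hG M hM p A hA)
    (fun M hM p _ hp A hA => Cfsg.Agent.S1417.result hG M hM p hp A hA)
    (fun M hM E hE p _ hp A hA => Cfsg.Agent.S1418.result hG M hM E hE p hp A hA)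
    M hM E hE p hp hS A hA

theorem st1419 (hG : Cfsg.IsMinSimpleOddOrder G) : St1419 G :=
  fun M hM E hE p _ hp hS A hA => (s1419 hG M hM E hE p hp hS A hA).1

/-- an element all of whose order's prime divisors equal `p` generates a `p`-group -/
theorem isPGroup_of_forall_prime_dvd {p : ℕ} [hp : Fact p.Prime] {X : Subgroup G}
    (h : ∀ x ∈ X, ∀ r : ℕ, r.Prime → r ∣ orderOf x → r = p) : IsPGroup p ↥X := by
  intro x
  have hox0 : orderOf (x : G) ≠ 0 := (orderOf_pos (x : G)).ne'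
  have h1 := Nat.eq_prime_pow_of_unique_prime_dvd (n := orderOf (x : G)) (p := p) hox0
    (fun {d} hd hdvd => h x x.2 d hd hdvd)
  refine ⟨(orderOf (x : G)).primeFactorsList.length, ?_⟩
  apply Subtype.ext
  rw [Subgroup.coe_pow, ← h1, pow_orderOf_eq_one]
  rfl

/-- **S1361** from B&G 12.8(a) -/
theorem s1361 (hG : Cfsg.IsMinSimpleOddOrder G) (h128 : St128 G)
    (M : Subgroup G) (hM : IsCoatom M) (K U : Subgroup G) (hKU : Cfsg.IsSigmaDecomposition M K U)
    (X : Subgroup G) (hXU : X ≤ U) (hX : X ≠ ⊥)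
    (hXc : Cfsg.sigmaCore M ⊓ Subgroup.centralizer (X : Set G) ≠ ⊥) :
    Subgroup.centralizer (X : Set G) ≤ M ∧
      ∀ L : Subgroup G, IsCoatom L → Subgroup.centralizer (X : Set G) ≤ L → L = M := by
  have h16 := st1416 hG
  have h17 := st1417 hG
  have h18 := st1418 hG
  have h19 := st1419 hG
  obtain ⟨⟨y, hyσ, hyX⟩, hy1'⟩ := (Subgroup.ne_bot_iff_exists_ne_one).mp hXc
  have hy1 : y ≠ 1 := fun h => hy1' (Subtype.ext h)
  have hyx : ∀ x ∈ X, x * y = y * x := fun x hx => (Subgroup.mem_centralizer_iff.mp hyX x hx)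
  obtain ⟨E, hE, hUE⟩ := exists_compl_ge_U hG hM hKU
  have hτ : ∀ x ∈ X, ∀ r : ℕ, r.Prime → r ∣ orderOf x → r ∈ Cfsg.tau2 M := fun x hx =>
    forall_mem_tau2_of_fixed_point hG hM hKU (hXU hx) hyσ hy1 (hyx x hx)
  -- an element `z` of prime order `p`
  obtain ⟨⟨x₀, hx₀X⟩, hx₀1'⟩ := (Subgroup.ne_bot_iff_exists_ne_one).mp hX
  have hx₀1 : x₀ ≠ 1 := fun h => hx₀1' (Subtype.ext h)
  have hox : orderOf x₀ ≠ 1 := fun h => hx₀1 (orderOf_eq_one_iff.mp h)
  have hox0 : orderOf x₀ ≠ 0 := (orderOf_pos x₀).ne'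
  obtain ⟨p, hp, hpx⟩ := Nat.exists_prime_and_dvd hox
  haveI : Fact p.Prime := ⟨hp⟩
  have hpτ : p ∈ Cfsg.tau2 M := hτ x₀ hx₀X p hp hpx
  obtain ⟨z, hzdef⟩ : ∃ z : G, z = x₀ ^ (orderOf x₀ / p) := ⟨_, rfl⟩
  have hz : orderOf z = p := hzdef ▸ orderOf_pow_orderOf_div hox0 hpx
  have hzX : z ∈ X := hzdef ▸ X.pow_mem hx₀X _
  have hzM : z ∈ M := U_le hKU (hXU hzX)
  have hz1 : z ≠ 1 := by
    intro h
    rw [h, orderOf_one] at hz
    exact hp.one_lt.ne hz
  have hzτ : ∀ r : ℕ, r.Prime → r ∣ orderOf z → r ∈ Cfsg.tau2 M := hτ z hzX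
  have hzhat : z ∈ Cfsg.sigmaHat M := ⟨hzM, y, hyσ, hy1, hyx z hzX⟩
  obtain ⟨hCz, -⟩ := part_d hG h17 h18 h19 hM hE z hzM hz1 hzτ hzhat
  have hCX : Subgroup.centralizer (X : Set G) ≤ M :=
    (Subgroup.centralizer_le (Set.singleton_subset_iff.mpr hzX)).trans hCz
  refine ⟨hCX, ?_⟩
  -- uniqueness
  obtain ⟨A, hAE, hAe, hAc⟩ := Cfsg.Agent.Lib.BG127H7.exists_elem_le_compl hE hpτ
  have hAM : A ≤ M := hAE.trans hE.1
  have hAp : IsPGroup p ↥A := isPGroup_of_elementary hAe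
  obtain ⟨⟨hEN, -⟩, -, -⟩ := h18 M hM E hE p hpτ A ⟨hAE, hAe, hAc⟩
  obtain ⟨-, -, -, -, h17e, -⟩ := h17 M hM p hpτ A ⟨hAM, hAe, hAc⟩
  have hAX : A ≤ Subgroup.centralizer (X : Set G) := by
    by_cases hab : ∀ q : ℕ, q ∈ Cfsg.tau2 M → ∀ [Fact q.Prime],
        ∃ S : Sylow q G, IsMulCommutative (S : Subgroup G)
    · intro a ha
      rw [Subgroup.mem_centralizer_iff]
      intro x hx
      have haF : a ∈ Cfsg.fittingOf E := by
        apply mem_fittingOf_of_tau2 hG h128 hM hE hab (hAE ha)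
        intro r hr hd
        have h1 : orderOf a ∣ p := orderOf_dvd_of_pow_eq_one (hAe.2 a ha)
        have : r = p := (Nat.prime_dvd_prime_iff_eq hr hp).mp (hd.trans h1)
        rw [this]; exact hpτ
      have hxF : x ∈ Cfsg.fittingOf E :=
        mem_fittingOf_of_tau2 hG h128 hM hE hab (hUE (hXU hx)) (hτ x hx)
      exact fittingOf_compl_comm hG hM hE x hxF a haF
    · push Not at hab
      obtain ⟨q, hqτ, hqf, hna⟩ := hab
      obtain ⟨B, hBE, hBe, hBc⟩ := Cfsg.Agent.Lib.BG127H7.exists_elem_le_compl hE hqτ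
      have hτeq : Cfsg.tau2 M = {q} := h19 M hM E hE q hqτ hna B ⟨hBE, hBe, hBc⟩
      have hpq : p = q := by
        have := hpτ
        rw [hτeq] at this
        exact this
      have hXp : IsPGroup p ↥X := by
        apply isPGroup_of_forall_prime_dvd
        intro x hx r hr hd
        have := hτ x hx r hr hd
        rw [hτeq] at this
        rw [hpq]; exact this
      have hXN : X ≤ Subgroup.normalizer (A : Set G) := (hXU.trans hUE).trans hEN
      have hPA : IsPGroup p ↥(X ⊔ A) := hXp.to_sup_of_normal_right' hAp hXN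
      have hle : X ⊔ A ≤ M := sup_le ((hXU.trans hUE).trans hE.1) hAM
      have hc := comm_of_pgroup_not_sigma hG h17 hM hpτ.2.1 hle hPA
      intro a ha
      rw [Subgroup.mem_centralizer_iff]
      intro x hx
      exact hc x (Subgroup.mem_sup_left hx) a (Subgroup.mem_sup_right ha)
  intro L hL hCL
  by_contra hLM
  have h1 := h17e L hL hLM (hAX.trans hCL)
  have : y ∈ Cfsg.sigmaCore M ⊓ L := ⟨hyσ, hCL hyX⟩
  rw [h1] at this
  exact hy1 (Subgroup.mem_bot.mp this)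

/-- the non-abelian case: a `p`-element of `E` with a fixed point on `M_σ` has order dividing `p` -/
theorem pow_eq_one_of_fixed_point (hG : Cfsg.IsMinSimpleOddOrder G) {M E A : Subgroup G}
    (hM : IsCoatom M) (hE : Cfsg.IsComplIn E (Cfsg.sigmaCore M) M) {p : ℕ} [hpf : Fact p.Prime]
    (hp : p ∈ Cfsg.tau2 M) (hna : ∀ S : Sylow p G, ¬ IsMulCommutative (S : Subgroup G))
    (hA : A ≤ E ∧ Cfsg.IsElementaryAbelian p A ∧ Nat.card A = p ^ 2)
    {u y : G} (huM : u ∈ M) (hup : IsPGroup p ↥(Subgroup.zpowers u))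
    (hy : y ∈ Cfsg.sigmaCore M) (hy1 : y ≠ 1) (huy : u * y = y * u) : u ^ p = 1 := by
  have hpp : p.Prime := hpf.out
  by_contra hne
  have cA : Cfsg.Agent.Lib.BG127H7.Ctx M E A p := ⟨hM, hE, hp, hA.1, hA.2.1, hA.2.2⟩
  obtain ⟨S, PG, Astar, Z0, d⟩ := Cfsg.Agent.Lib.BG127H7.exists_data hG (st1416 hG) (st1417 hG) cA hna
  -- the order of `u`
  obtain ⟨k, hk⟩ := (IsPGroup.iff_card.mp hup)
  rw [Nat.card_zpowers] at hk
  have hk2 : 2 ≤ k := by
    by_contra hlt
    push Not at hlt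
    apply hne
    apply orderOf_dvd_iff_pow_eq_one.mp
    rw [hk]
    calc p ^ k ∣ p ^ 1 := pow_dvd_pow p (by omega)
      _ = p := pow_one p
  have hox0 : orderOf u ≠ 0 := (orderOf_pos u).ne'
  have hdvd : p ^ 2 ∣ orderOf u := by rw [hk]; exact pow_dvd_pow p hk2
  obtain ⟨w, hwdef⟩ : ∃ w : G, w = u ^ (orderOf u / p ^ 2) := ⟨_, rfl⟩
  have hw : orderOf w = p ^ 2 := hwdef ▸ orderOf_pow_orderOf_div hox0 hdvd
  have hwM : w ∈ M := hwdef ▸ M.pow_mem huM _
  have hwy : w * y = y * w := by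
    rw [hwdef]
    exact ((Commute.pow_left (show Commute u y from huy) _)).eq
  have hwp : IsPGroup p ↥(Subgroup.zpowers w) := by
    apply IsPGroup.of_card (n := 2)
    rw [Nat.card_zpowers, hw]
  obtain ⟨R, hR, hwR⟩ := exists_isSylowIn_ge hwp (Subgroup.zpowers_le.mpr hwM)
  obtain ⟨h, hhM, hconj⟩ := hR.conj d.hPGsyl
  obtain ⟨w', hw'def⟩ : ∃ w' : G, w' = h * w * h⁻¹ := ⟨_, rfl⟩
  obtain ⟨y', hy'def⟩ : ∃ y' : G, y' = h * y * h⁻¹ := ⟨_, rfl⟩
  have hw'PG : w' ∈ PG := by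
    rw [hconj, hw'def]
    exact ⟨w, hwR (Subgroup.mem_zpowers w), by simp [MulAut.conj_apply]⟩
  have hw'o : orderOf w' = p ^ 2 := by
    rw [hw'def, ← hw]
    exact ((MulAut.conj h).orderOf_eq w)
  have hy'σ : y' ∈ Cfsg.sigmaCore M :=
    hy'def ▸ (Subgroup.mem_normalizer_iff.mp (le_normalizer_sigmaCore M hhM) y).mp hy
  have hy'1 : y' ≠ 1 := by
    intro h0
    apply hy1
    have e : y = h⁻¹ * y' * h := by rw [hy'def]; group
    rw [e, h0]; group
  have hw'y' : w' * y' = y' * w' := by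
    rw [hw'def, hy'def]
    have e1 : h * w * h⁻¹ * (h * y * h⁻¹) = h * (w * y) * h⁻¹ := by group
    have e2 : h * y * h⁻¹ * (h * w * h⁻¹) = h * (y * w) * h⁻¹ := by group
    rw [e1, e2, hwy]
  -- `t = w' ^ p` has order `p`
  obtain ⟨t, htdef⟩ : ∃ t : G, t = w' ^ p := ⟨_, rfl⟩
  have hto : orderOf t = p := by
    rw [htdef, orderOf_pow' w' hpp.ne_zero, hw'o]
    have : Nat.gcd (p ^ 2) p = p := Nat.gcd_eq_right (Dvd.intro_left _ (by ring))
    rw [this, pow_two]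
    exact Nat.mul_div_cancel _ hpp.pos
  have htPG : t ∈ PG := htdef ▸ PG.pow_mem hw'PG p
  have htA : t ∈ A := by
    rw [← d.hOmega t htPG, ← hto]
    exact pow_orderOf_eq_one t
  have hAM : A ≤ M := hA.1.trans hE.1
  have hAmax := (Cfsg.Agent.S1408.result hG M hM p hp.2.1 hp.2.2.1 hp.2.2.2).2 A hAM hA.2.1 hA.2.2
  have hAnc : ¬ (S : Subgroup G) ≤ Subgroup.centralizer (A : Set G) := by
    intro hle
    apply d.hnSM
    have : (S : Subgroup G) ≤ PG := by
      rw [← d.hSCA]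
      exact le_inf le_rfl hle
    exact this.trans d.hPGsyl.1
  have htZ0 : t ∈ Z0 := by
    rw [htdef]
    exact Cfsg.Agent.Lib.BG127H7.pow_mem_Z0 hG (fun p _ P hr => Cfsg.Agent.S1412.result hG p P hr)
      S (hna S) (d.hAPG.trans d.hPGS) hA.2.1 hA.2.2 hAmax d.hZ0A d.hZ0c d.hSZ0 hAnc
      (d.hPGS hw'PG) (htdef ▸ htA)
  have hZ0eq : Z0 = Subgroup.zpowers t := by
    symm
    apply Subgroup.eq_of_le_of_card_ge (Subgroup.zpowers_le.mpr htZ0)
    rw [Nat.card_zpowers, hto, d.hZ0c]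
  have hty' : y' ∈ Subgroup.centralizer (Z0 : Set G) := by
    rw [hZ0eq, centralizer_zpowers_eq, Subgroup.mem_centralizer_singleton_iff, htdef]
    exact ((Commute.pow_right (show Commute y' w' from hw'y'.symm) _)).eq
  have hbot := Cfsg.Agent.Lib.BG127H7.sigmaCore_inf_centralizer_Z0 (st1418 hG) cA d
  have : y' ∈ Cfsg.sigmaCore M ⊓ Subgroup.centralizer (Z0 : Set G) := ⟨hy'σ, hty'⟩
  rw [hbot] at this
  exact hy'1 (Subgroup.mem_bot.mp this)

/-- **S1359** from B&G 12.8(a) -/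
theorem s1359 (hG : Cfsg.IsMinSimpleOddOrder G) (h128 : St128 G)
    (M : Subgroup G) (hM : IsCoatom M) (K U : Subgroup G) (hKU : Cfsg.IsSigmaDecomposition M K U) :
    IsMulCommutative (Subgroup.closure ((U : Set G) ∩ Cfsg.sigmaHat M)) := by
  have h18 := st1418 hG
  have h19 := st1419 hG
  obtain ⟨E, hE, hUE⟩ := exists_compl_ge_U hG hM hKU
  -- it suffices to find an abelian subgroup containing `U ∩ M̂_σ`
  suffices hsuff : ∃ T : Subgroup G, (∀ a ∈ T, ∀ b ∈ T, a * b = b * a) ∧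
      ∀ u ∈ (U : Set G) ∩ Cfsg.sigmaHat M, u ∈ T by
    obtain ⟨T, hT, hle⟩ := hsuff
    have hcl : Subgroup.closure ((U : Set G) ∩ Cfsg.sigmaHat M) ≤ T :=
      (Subgroup.closure_le T).mpr hle
    refine ⟨⟨fun a b => ?_⟩⟩
    apply Subtype.ext
    exact hT a (hcl a.2) b (hcl b.2)
  by_cases hab : ∀ q : ℕ, q ∈ Cfsg.tau2 M → ∀ [Fact q.Prime],
      ∃ S : Sylow q G, IsMulCommutative (S : Subgroup G)
  · refine ⟨Cfsg.fittingOf E, fittingOf_compl_comm hG hM hE, ?_⟩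
    rintro u ⟨huU, -, y, hyσ, hy1, huy⟩
    exact mem_fittingOf_of_tau2 hG h128 hM hE hab (hUE huU)
      (forall_mem_tau2_of_fixed_point hG hM hKU huU hyσ hy1 huy)
  · push Not at hab
    obtain ⟨q, hqτ, hqf, hna⟩ := hab
    obtain ⟨A, hAE, hAe, hAc⟩ := Cfsg.Agent.Lib.BG127H7.exists_elem_le_compl hE hqτ
    have hτeq : Cfsg.tau2 M = {q} := h19 M hM E hE q hqτ hna A ⟨hAE, hAe, hAc⟩
    obtain ⟨⟨-, hXA⟩, -, -⟩ := h18 M hM E hE q hqτ A ⟨hAE, hAe, hAc⟩
    refine ⟨A, fun a ha b hb => ?_, ?_⟩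
    · exact congrArg Subtype.val (hAe.1.is_comm.comm (⟨a, ha⟩ : ↥A) ⟨b, hb⟩)
    · rintro u ⟨huU, huM, y, hyσ, hy1, huy⟩
      have hτ := forall_mem_tau2_of_fixed_point hG hM hKU huU hyσ hy1 huy
      have hup : IsPGroup q ↥(Subgroup.zpowers u) := by
        apply isPGroup_of_forall_prime_dvd
        intro x hx r hr hd
        have h1 : orderOf x ∣ orderOf u := orderOf_dvd_of_mem_zpowers hx
        have := hτ r hr (hd.trans h1)
        rw [hτeq] at this
        exact this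
      have hpow := pow_eq_one_of_fixed_point hG hM hE hqτ hna ⟨hAE, hAe, hAc⟩ huM hup hyσ hy1 huy
      by_cases hu1 : u = 1
      · rw [hu1]; exact A.one_mem
      · have hou : orderOf u = q := orderOf_eq_prime hpow hu1
        have hc : Nat.card ↥(Subgroup.zpowers u) = q := by rw [Nat.card_zpowers, hou]
        exact hXA _ (Subgroup.zpowers_le.mpr (hUE huU)) hc (Subgroup.mem_zpowers u)

/-- B&G 12.8(a) (helper3's `sylow_le_fitting`) -/
theorem st128 (hG : Cfsg.IsMinSimpleOddOrder G) : St128 G := by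
  intro M hM E hE p _ hp A hA S hSc hAS
  have h := Cfsg.Agent.Lib.helper3.BG12.sylow_le_fitting hG (st1417 hG) (st1418 hG) hM hE hp
    hA.1 hA.2.1 hA.2.2 S
    (fun a ha b hb => congrArg Subtype.val
      (hSc.is_comm.comm (⟨a, ha⟩ : ↥(S : Subgroup G)) ⟨b, hb⟩)) hAS
  exact ⟨h.1, h.2.1⟩

end Cfsg.Agent.H2.BG12
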